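import Cfsg.Agent.Lib.Helper6.TCD.Fi24a.GTP0
import Cfsg.Agent.Lib.Helper6.TCD.Fi24a.GTP1
import Cfsg.Agent.Lib.Helper6.TCD.Fi24a.GTP2
import Cfsg.Agent.Lib.Helper6.TCD.Fi24a.GTP3
import Cfsg.Agent.Lib.Helper6.TCD.Fi24a.GTP4
set_option autoImplicit false
namespace Cfsg.Agent.Lib.Helper6.TCD.Fi24a
noncomputable def GTT0 (i : Nat) : Nat := Bool.rec (GTP0N62 i) (GTP1N62 i) (Nat.ble 65536 i)
noncomputable def GTT1 (i : Nat) : Nat := Bool.rec (GTT0 i) (GTP2N62 i) (Nat.ble 131072 i)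
noncomputable def GTT2 (i : Nat) : Nat := Bool.rec (GTP3N62 i) (GTP4N42 i) (Nat.ble 262144 i)
noncomputable def GT (i : Nat) : Nat := Bool.rec (GTT1 i) (GTT2 i) (Nat.ble 196608 i)
end Cfsg.Agent.Lib.Helper6.TCD.Fi24a
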