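import Cfsg.Agent.Lib.Helper6.TCD.Fi24a.HRP0
import Cfsg.Agent.Lib.Helper6.TCD.Fi24a.HRP1
import Cfsg.Agent.Lib.Helper6.TCD.Fi24a.HRP2
import Cfsg.Agent.Lib.Helper6.TCD.Fi24a.HRP3
import Cfsg.Agent.Lib.Helper6.TCD.Fi24a.HRP4
set_option autoImplicit false
namespace Cfsg.Agent.Lib.Helper6.TCD.Fi24a
noncomputable def HRT0 (i : Nat) : Nat := Bool.rec (HRP0N62 i) (HRP1N62 i) (Nat.ble 65536 i)
noncomputable def HRT1 (i : Nat) : Nat := Bool.rec (HRT0 i) (HRP2N62 i) (Nat.ble 131072 i)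
noncomputable def HRT2 (i : Nat) : Nat := Bool.rec (HRP3N62 i) (HRP4N42 i) (Nat.ble 262144 i)
noncomputable def HR (i : Nat) : Nat := Bool.rec (HRT1 i) (HRT2 i) (Nat.ble 196608 i)
end Cfsg.Agent.Lib.Helper6.TCD.Fi24a
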