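import Cfsg.Agent.Lib.Helper6.TCD.Fi24a.NCP0
import Cfsg.Agent.Lib.Helper6.TCD.Fi24a.NCP1
import Cfsg.Agent.Lib.Helper6.TCD.Fi24a.NCP2
import Cfsg.Agent.Lib.Helper6.TCD.Fi24a.NCP3
import Cfsg.Agent.Lib.Helper6.TCD.Fi24a.NCP4
import Cfsg.Agent.Lib.Helper6.TCD.Fi24a.NCP5
import Cfsg.Agent.Lib.Helper6.TCD.Fi24a.NCP6
import Cfsg.Agent.Lib.Helper6.TCD.Fi24a.NCP7
import Cfsg.Agent.Lib.Helper6.TCD.Fi24a.NCP8
import Cfsg.Agent.Lib.Helper6.TCD.Fi24a.NCP9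
import Cfsg.Agent.Lib.Helper6.TCD.Fi24a.NCP10
import Cfsg.Agent.Lib.Helper6.TCD.Fi24a.NCP11
import Cfsg.Agent.Lib.Helper6.TCD.Fi24a.NCP12
set_option autoImplicit false
namespace Cfsg.Agent.Lib.Helper6.TCD.Fi24a
noncomputable def NCT0 (i : Nat) : Nat := Bool.rec (NCP0N62 i) (NCP1N62 i) (Nat.ble 32768 i)
noncomputable def NCT1 (i : Nat) : Nat := Bool.rec (NCP2N62 i) (NCP3N62 i) (Nat.ble 98304 i)
noncomputable def NCT2 (i : Nat) : Nat := Bool.rec (NCT0 i) (NCT1 i) (Nat.ble 65536 i)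
noncomputable def NCT3 (i : Nat) : Nat := Bool.rec (NCP4N62 i) (NCP5N62 i) (Nat.ble 163840 i)
noncomputable def NCT4 (i : Nat) : Nat := Bool.rec (NCT3 i) (NCP6N62 i) (Nat.ble 196608 i)
noncomputable def NCT5 (i : Nat) : Nat := Bool.rec (NCT2 i) (NCT4 i) (Nat.ble 131072 i)
noncomputable def NCT6 (i : Nat) : Nat := Bool.rec (NCP7N62 i) (NCP8N62 i) (Nat.ble 262144 i)
noncomputable def NCT7 (i : Nat) : Nat := Bool.rec (NCT6 i) (NCP9N62 i) (Nat.ble 294912 i)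
noncomputable def NCT8 (i : Nat) : Nat := Bool.rec (NCP10N62 i) (NCP11N62 i) (Nat.ble 360448 i)
noncomputable def NCT9 (i : Nat) : Nat := Bool.rec (NCT8 i) (NCP12N1 i) (Nat.ble 393216 i)
noncomputable def NCT10 (i : Nat) : Nat := Bool.rec (NCT7 i) (NCT9 i) (Nat.ble 327680 i)
noncomputable def NC (i : Nat) : Nat := Bool.rec (NCT5 i) (NCT10 i) (Nat.ble 229376 i)
end Cfsg.Agent.Lib.Helper6.TCD.Fi24a
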