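import Cfsg.Agent.Lib.Helper6.TCD.Fi24a.SCP0
import Cfsg.Agent.Lib.Helper6.TCD.Fi24a.SCP1
import Cfsg.Agent.Lib.Helper6.TCD.Fi24a.SCP2
import Cfsg.Agent.Lib.Helper6.TCD.Fi24a.SCP3
import Cfsg.Agent.Lib.Helper6.TCD.Fi24a.SCP4
import Cfsg.Agent.Lib.Helper6.TCD.Fi24a.SCP5
import Cfsg.Agent.Lib.Helper6.TCD.Fi24a.SCP6
import Cfsg.Agent.Lib.Helper6.TCD.Fi24a.SCP7
import Cfsg.Agent.Lib.Helper6.TCD.Fi24a.SCP8
import Cfsg.Agent.Lib.Helper6.TCD.Fi24a.SCP9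
import Cfsg.Agent.Lib.Helper6.TCD.Fi24a.SCP10
import Cfsg.Agent.Lib.Helper6.TCD.Fi24a.SCP11
import Cfsg.Agent.Lib.Helper6.TCD.Fi24a.SCP12
import Cfsg.Agent.Lib.Helper6.TCD.Fi24a.SCP13
import Cfsg.Agent.Lib.Helper6.TCD.Fi24a.SCP14
import Cfsg.Agent.Lib.Helper6.TCD.Fi24a.SCP15
import Cfsg.Agent.Lib.Helper6.TCD.Fi24a.SCP16
import Cfsg.Agent.Lib.Helper6.TCD.Fi24a.SCP17
import Cfsg.Agent.Lib.Helper6.TCD.Fi24a.SCP18
import Cfsg.Agent.Lib.Helper6.TCD.Fi24a.SCP19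
import Cfsg.Agent.Lib.Helper6.TCD.Fi24a.SCP20
import Cfsg.Agent.Lib.Helper6.TCD.Fi24a.SCP21
import Cfsg.Agent.Lib.Helper6.TCD.Fi24a.SCP22
import Cfsg.Agent.Lib.Helper6.TCD.Fi24a.SCP23
import Cfsg.Agent.Lib.Helper6.TCD.Fi24a.SCP24
import Cfsg.Agent.Lib.Helper6.TCD.Fi24a.SCP25
import Cfsg.Agent.Lib.Helper6.TCD.Fi24a.SCP26
import Cfsg.Agent.Lib.Helper6.TCD.Fi24a.SCP27
import Cfsg.Agent.Lib.Helper6.TCD.Fi24a.SCP28
import Cfsg.Agent.Lib.Helper6.TCD.Fi24a.SCP29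
import Cfsg.Agent.Lib.Helper6.TCD.Fi24a.SCP30
import Cfsg.Agent.Lib.Helper6.TCD.Fi24a.SCP31
import Cfsg.Agent.Lib.Helper6.TCD.Fi24a.SCP32
import Cfsg.Agent.Lib.Helper6.TCD.Fi24a.SCP33
import Cfsg.Agent.Lib.Helper6.TCD.Fi24a.SCP34
import Cfsg.Agent.Lib.Helper6.TCD.Fi24a.SCP35
import Cfsg.Agent.Lib.Helper6.TCD.Fi24a.SCP36
import Cfsg.Agent.Lib.Helper6.TCD.Fi24a.SCP37
import Cfsg.Agent.Lib.Helper6.TCD.Fi24a.SCP38
import Cfsg.Agent.Lib.Helper6.TCD.Fi24a.SCP39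
import Cfsg.Agent.Lib.Helper6.TCD.Fi24a.SCP40
import Cfsg.Agent.Lib.Helper6.TCD.Fi24a.SCP41
import Cfsg.Agent.Lib.Helper6.TCD.Fi24a.SCP42
import Cfsg.Agent.Lib.Helper6.TCD.Fi24a.SCP43
import Cfsg.Agent.Lib.Helper6.TCD.Fi24a.SCP44
import Cfsg.Agent.Lib.Helper6.TCD.Fi24a.SCP45
import Cfsg.Agent.Lib.Helper6.TCD.Fi24a.SCP46
import Cfsg.Agent.Lib.Helper6.TCD.Fi24a.SCP47
import Cfsg.Agent.Lib.Helper6.TCD.Fi24a.SCP48
import Cfsg.Agent.Lib.Helper6.TCD.Fi24a.SCP49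
import Cfsg.Agent.Lib.Helper6.TCD.Fi24a.SCP50
import Cfsg.Agent.Lib.Helper6.TCD.Fi24a.SCP51
import Cfsg.Agent.Lib.Helper6.TCD.Fi24a.SCP52
import Cfsg.Agent.Lib.Helper6.TCD.Fi24a.SCP53
import Cfsg.Agent.Lib.Helper6.TCD.Fi24a.SCP54
import Cfsg.Agent.Lib.Helper6.TCD.Fi24a.SCP55
import Cfsg.Agent.Lib.Helper6.TCD.Fi24a.SCP56
import Cfsg.Agent.Lib.Helper6.TCD.Fi24a.SCP57
import Cfsg.Agent.Lib.Helper6.TCD.Fi24a.SCP58
import Cfsg.Agent.Lib.Helper6.TCD.Fi24a.SCP59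
import Cfsg.Agent.Lib.Helper6.TCD.Fi24a.SCP60
import Cfsg.Agent.Lib.Helper6.TCD.Fi24a.SCP61
import Cfsg.Agent.Lib.Helper6.TCD.Fi24a.SCP62
import Cfsg.Agent.Lib.Helper6.TCD.Fi24a.SCP63
import Cfsg.Agent.Lib.Helper6.TCD.Fi24a.SCP64
import Cfsg.Agent.Lib.Helper6.TCD.Fi24a.SCP65
import Cfsg.Agent.Lib.Helper6.TCD.Fi24a.SCP66
import Cfsg.Agent.Lib.Helper6.TCD.Fi24a.SCP67
import Cfsg.Agent.Lib.Helper6.TCD.Fi24a.SCP68
import Cfsg.Agent.Lib.Helper6.TCD.Fi24a.SCP69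
import Cfsg.Agent.Lib.Helper6.TCD.Fi24a.SCP70
import Cfsg.Agent.Lib.Helper6.TCD.Fi24a.SCP71
import Cfsg.Agent.Lib.Helper6.TCD.Fi24a.SCP72
set_option autoImplicit false
namespace Cfsg.Agent.Lib.Helper6.TCD.Fi24a
noncomputable def SCT0 (i : Nat) : Nat := Bool.rec (SCP0N62 i) (SCP1N62 i) (Nat.ble 65536 i)
noncomputable def SCT1 (i : Nat) : Nat := Bool.rec (SCT0 i) (SCP2N62 i) (Nat.ble 131072 i)
noncomputable def SCT2 (i : Nat) : Nat := Bool.rec (SCP3N62 i) (SCP4N62 i) (Nat.ble 262144 i)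
noncomputable def SCT3 (i : Nat) : Nat := Bool.rec (SCT1 i) (SCT2 i) (Nat.ble 196608 i)
noncomputable def SCT4 (i : Nat) : Nat := Bool.rec (SCP5N62 i) (SCP6N62 i) (Nat.ble 393216 i)
noncomputable def SCT5 (i : Nat) : Nat := Bool.rec (SCT4 i) (SCP7N62 i) (Nat.ble 458752 i)
noncomputable def SCT6 (i : Nat) : Nat := Bool.rec (SCP8N62 i) (SCP9N62 i) (Nat.ble 589824 i)
noncomputable def SCT7 (i : Nat) : Nat := Bool.rec (SCT5 i) (SCT6 i) (Nat.ble 524288 i)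
noncomputable def SCT8 (i : Nat) : Nat := Bool.rec (SCT3 i) (SCT7 i) (Nat.ble 327680 i)
noncomputable def SCT9 (i : Nat) : Nat := Bool.rec (SCP10N62 i) (SCP11N62 i) (Nat.ble 720896 i)
noncomputable def SCT10 (i : Nat) : Nat := Bool.rec (SCT9 i) (SCP12N62 i) (Nat.ble 786432 i)
noncomputable def SCT11 (i : Nat) : Nat := Bool.rec (SCP13N62 i) (SCP14N62 i) (Nat.ble 917504 i)
noncomputable def SCT12 (i : Nat) : Nat := Bool.rec (SCT10 i) (SCT11 i) (Nat.ble 851968 i)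
noncomputable def SCT13 (i : Nat) : Nat := Bool.rec (SCP15N62 i) (SCP16N62 i) (Nat.ble 1048576 i)
noncomputable def SCT14 (i : Nat) : Nat := Bool.rec (SCP17N62 i) (SCP18N62 i) (Nat.ble 1179648 i)
noncomputable def SCT15 (i : Nat) : Nat := Bool.rec (SCT13 i) (SCT14 i) (Nat.ble 1114112 i)
noncomputable def SCT16 (i : Nat) : Nat := Bool.rec (SCT12 i) (SCT15 i) (Nat.ble 983040 i)
noncomputable def SCT17 (i : Nat) : Nat := Bool.rec (SCT8 i) (SCT16 i) (Nat.ble 655360 i)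
noncomputable def SCT18 (i : Nat) : Nat := Bool.rec (SCP19N62 i) (SCP20N62 i) (Nat.ble 1310720 i)
noncomputable def SCT19 (i : Nat) : Nat := Bool.rec (SCT18 i) (SCP21N62 i) (Nat.ble 1376256 i)
noncomputable def SCT20 (i : Nat) : Nat := Bool.rec (SCP22N62 i) (SCP23N62 i) (Nat.ble 1507328 i)
noncomputable def SCT21 (i : Nat) : Nat := Bool.rec (SCT19 i) (SCT20 i) (Nat.ble 1441792 i)
noncomputable def SCT22 (i : Nat) : Nat := Bool.rec (SCP24N62 i) (SCP25N62 i) (Nat.ble 1638400 i)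
noncomputable def SCT23 (i : Nat) : Nat := Bool.rec (SCP26N62 i) (SCP27N62 i) (Nat.ble 1769472 i)
noncomputable def SCT24 (i : Nat) : Nat := Bool.rec (SCT22 i) (SCT23 i) (Nat.ble 1703936 i)
noncomputable def SCT25 (i : Nat) : Nat := Bool.rec (SCT21 i) (SCT24 i) (Nat.ble 1572864 i)
noncomputable def SCT26 (i : Nat) : Nat := Bool.rec (SCP28N62 i) (SCP29N62 i) (Nat.ble 1900544 i)
noncomputable def SCT27 (i : Nat) : Nat := Bool.rec (SCT26 i) (SCP30N62 i) (Nat.ble 1966080 i)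
noncomputable def SCT28 (i : Nat) : Nat := Bool.rec (SCP31N62 i) (SCP32N62 i) (Nat.ble 2097152 i)
noncomputable def SCT29 (i : Nat) : Nat := Bool.rec (SCT27 i) (SCT28 i) (Nat.ble 2031616 i)
noncomputable def SCT30 (i : Nat) : Nat := Bool.rec (SCP33N62 i) (SCP34N62 i) (Nat.ble 2228224 i)
noncomputable def SCT31 (i : Nat) : Nat := Bool.rec (SCP35N62 i) (SCP36N62 i) (Nat.ble 2359296 i)
noncomputable def SCT32 (i : Nat) : Nat := Bool.rec (SCT30 i) (SCT31 i) (Nat.ble 2293760 i)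
noncomputable def SCT33 (i : Nat) : Nat := Bool.rec (SCT29 i) (SCT32 i) (Nat.ble 2162688 i)
noncomputable def SCT34 (i : Nat) : Nat := Bool.rec (SCT25 i) (SCT33 i) (Nat.ble 1835008 i)
noncomputable def SCT35 (i : Nat) : Nat := Bool.rec (SCT17 i) (SCT34 i) (Nat.ble 1245184 i)
noncomputable def SCT36 (i : Nat) : Nat := Bool.rec (SCP37N62 i) (SCP38N62 i) (Nat.ble 2490368 i)
noncomputable def SCT37 (i : Nat) : Nat := Bool.rec (SCT36 i) (SCP39N62 i) (Nat.ble 2555904 i)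
noncomputable def SCT38 (i : Nat) : Nat := Bool.rec (SCP40N62 i) (SCP41N62 i) (Nat.ble 2686976 i)
noncomputable def SCT39 (i : Nat) : Nat := Bool.rec (SCT37 i) (SCT38 i) (Nat.ble 2621440 i)
noncomputable def SCT40 (i : Nat) : Nat := Bool.rec (SCP42N62 i) (SCP43N62 i) (Nat.ble 2818048 i)
noncomputable def SCT41 (i : Nat) : Nat := Bool.rec (SCP44N62 i) (SCP45N62 i) (Nat.ble 2949120 i)
noncomputable def SCT42 (i : Nat) : Nat := Bool.rec (SCT40 i) (SCT41 i) (Nat.ble 2883584 i)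
noncomputable def SCT43 (i : Nat) : Nat := Bool.rec (SCT39 i) (SCT42 i) (Nat.ble 2752512 i)
noncomputable def SCT44 (i : Nat) : Nat := Bool.rec (SCP46N62 i) (SCP47N62 i) (Nat.ble 3080192 i)
noncomputable def SCT45 (i : Nat) : Nat := Bool.rec (SCT44 i) (SCP48N62 i) (Nat.ble 3145728 i)
noncomputable def SCT46 (i : Nat) : Nat := Bool.rec (SCP49N62 i) (SCP50N62 i) (Nat.ble 3276800 i)
noncomputable def SCT47 (i : Nat) : Nat := Bool.rec (SCT45 i) (SCT46 i) (Nat.ble 3211264 i)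
noncomputable def SCT48 (i : Nat) : Nat := Bool.rec (SCP51N62 i) (SCP52N62 i) (Nat.ble 3407872 i)
noncomputable def SCT49 (i : Nat) : Nat := Bool.rec (SCP53N62 i) (SCP54N62 i) (Nat.ble 3538944 i)
noncomputable def SCT50 (i : Nat) : Nat := Bool.rec (SCT48 i) (SCT49 i) (Nat.ble 3473408 i)
noncomputable def SCT51 (i : Nat) : Nat := Bool.rec (SCT47 i) (SCT50 i) (Nat.ble 3342336 i)
noncomputable def SCT52 (i : Nat) : Nat := Bool.rec (SCT43 i) (SCT51 i) (Nat.ble 3014656 i)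
noncomputable def SCT53 (i : Nat) : Nat := Bool.rec (SCP55N62 i) (SCP56N62 i) (Nat.ble 3670016 i)
noncomputable def SCT54 (i : Nat) : Nat := Bool.rec (SCT53 i) (SCP57N62 i) (Nat.ble 3735552 i)
noncomputable def SCT55 (i : Nat) : Nat := Bool.rec (SCP58N62 i) (SCP59N62 i) (Nat.ble 3866624 i)
noncomputable def SCT56 (i : Nat) : Nat := Bool.rec (SCT54 i) (SCT55 i) (Nat.ble 3801088 i)
noncomputable def SCT57 (i : Nat) : Nat := Bool.rec (SCP60N62 i) (SCP61N62 i) (Nat.ble 3997696 i)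
noncomputable def SCT58 (i : Nat) : Nat := Bool.rec (SCP62N62 i) (SCP63N62 i) (Nat.ble 4128768 i)
noncomputable def SCT59 (i : Nat) : Nat := Bool.rec (SCT57 i) (SCT58 i) (Nat.ble 4063232 i)
noncomputable def SCT60 (i : Nat) : Nat := Bool.rec (SCT56 i) (SCT59 i) (Nat.ble 3932160 i)
noncomputable def SCT61 (i : Nat) : Nat := Bool.rec (SCP64N62 i) (SCP65N62 i) (Nat.ble 4259840 i)
noncomputable def SCT62 (i : Nat) : Nat := Bool.rec (SCT61 i) (SCP66N62 i) (Nat.ble 4325376 i)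
noncomputable def SCT63 (i : Nat) : Nat := Bool.rec (SCP67N62 i) (SCP68N62 i) (Nat.ble 4456448 i)
noncomputable def SCT64 (i : Nat) : Nat := Bool.rec (SCT62 i) (SCT63 i) (Nat.ble 4390912 i)
noncomputable def SCT65 (i : Nat) : Nat := Bool.rec (SCP69N62 i) (SCP70N62 i) (Nat.ble 4587520 i)
noncomputable def SCT66 (i : Nat) : Nat := Bool.rec (SCP71N62 i) (SCP72N13 i) (Nat.ble 4718592 i)
noncomputable def SCT67 (i : Nat) : Nat := Bool.rec (SCT65 i) (SCT66 i) (Nat.ble 4653056 i)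
noncomputable def SCT68 (i : Nat) : Nat := Bool.rec (SCT64 i) (SCT67 i) (Nat.ble 4521984 i)
noncomputable def SCT69 (i : Nat) : Nat := Bool.rec (SCT60 i) (SCT68 i) (Nat.ble 4194304 i)
noncomputable def SCT70 (i : Nat) : Nat := Bool.rec (SCT52 i) (SCT69 i) (Nat.ble 3604480 i)
noncomputable def SC (i : Nat) : Nat := Bool.rec (SCT35 i) (SCT70 i) (Nat.ble 2424832 i)
end Cfsg.Agent.Lib.Helper6.TCD.Fi24a
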