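set_option autoImplicit false
namespace Cfsg.Agent.Lib.Helper6.TCD.Fi24a
noncomputable def WIL0 (i : Nat) : Nat := Nat.land (Nat.shiftRight 0x97a74b93a5a9d2c4e95a74a93a529d284e93a74993a4a9d244e91a74893a429d204e8fa74793a3a9d1c4e8da74693a329d184e8ba74593a2a9d144e89a74493a229d104e87a74393a1a9d0c4e85a74293a129d084e83a74193a0a9d044e81a74093a029d004e1fa70f9387a9c3c4e1da70e938729c384e1ba70d9386a9c344e19a70c938629c304e17a70b9385a9c2c4e15a70a938529c284e13a7099384a9c244e11a708938429c204e0fa7079383a9c1c4e0da706938329c184e0ba7059382a9c144e09a704938229c104e07a7039381a9c0c4e05a702938129c084e03a7019380a9c044e01a700938029c004e00a6801340298004c00a58012c0294004a00a4801240290004800a38011c028c004600a2801140288004400a18010c0284004200a08010402800040009f800fc027c003e009e800f40278003c009d800ec0274003a009c800e402700038009b800dc026c0036009a800d4026800340099800cc026400320098800c4026000300097800bc025c002e0096800b40258002c0095800ac0254002a0094800a40250002800938009c024c00260092800940248002400918008c0244002200908008402400020008f8007c023c001e008e800740238001c008d8006c0234001a008c8006402300018008b8005c022c0016008a800540228001400898004c022400120088800440220001000878003c021c000e0086800340218000c00058002800120008000380018000a000400018000800020000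 (Nat.mul 17 (Nat.land i 255))) 131071
noncomputable def WIL1 (i : Nat) : Nat := Nat.land (Nat.shiftRight 0x86a7c313e169f0a4f84a7c213e0e9f064f82a7c113e069f024f80a7c013c1a9e0c4f05a78293c129e084f03a78193c0a9e044f01a78093c029e004f9fa74f93a7a9d3c4e9da74e93a729d384e9ba74d93a6a9d344e99a74c93a629d304e (Nat.mul 17 (Nat.land i 255))) 131071
noncomputable def WI (i : Nat) : Nat := Bool.rec (WIL0 i) (WIL1 i) (Nat.ble 256 i)
end Cfsg.Agent.Lib.Helper6.TCD.Fi24a
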