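import Cfsg.Agent.Lib.Helper6.TCD.Fi24a.SH
import Cfsg.Agent.Lib.Helper6.TCD.Fi24a.SC
import Cfsg.Agent.Lib.Helper6.TCD.Fi24a.NH
import Cfsg.Agent.Lib.Helper6.TCD.Fi24a.NC
import Cfsg.Agent.Lib.Helper6.TCD.Fi24a.WD
import Cfsg.Agent.Lib.Helper6.TCD.Fi24a.WI
import Cfsg.Agent.Lib.Helper6.TCD.Fi24a.P0
import Cfsg.Agent.Lib.Helper6.TCD.Fi24a.P1
import Cfsg.Agent.Lib.Helper6.TCD.Fi24a.P2
import Cfsg.Agent.Lib.Helper6.TCD.Fi24a.P3
import Cfsg.Agent.Lib.Helper6.TCD.Fi24a.P4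
import Cfsg.Agent.Lib.Helper6.TCD.Fi24a.P5
import Cfsg.Agent.Lib.Helper6.TCD.Fi24a.P6
import Cfsg.Agent.Lib.Helper6.TCD.Fi24a.P7
import Cfsg.Agent.Lib.Helper6.TCD.Fi24a.P8
import Cfsg.Agent.Lib.Helper6.TCD.Fi24a.P9
import Cfsg.Agent.Lib.Helper6.TCD.Fi24a.P10
import Cfsg.Agent.Lib.Helper6.TCD.Fi24a.P11
import Cfsg.Agent.Lib.Helper6.TCD.Fi24a.GT
import Cfsg.Agent.Lib.Helper6.TCD.Fi24a.HR
import Cfsg.Agent.Lib.Helper6.TCD.Fi24a.Q79
set_option autoImplicit false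
namespace Cfsg.Agent.Lib.Helper6.TCD.Fi24a
def n : Nat := 394454
def ncol : Nat := 12
def nrw : Nat := 300
def nw : Nat := 311
def tmax : Nat := 4655952
def INV : Nat := 205163983024656
def N : Nat := 306936
noncomputable def px (c p : Nat) : Nat := Nat.rec (motive := fun _ => Nat) (P0 p) (fun k0 _ => Nat.rec (motive := fun _ => Nat) (P1 p) (fun k1 _ => Nat.rec (motive := fun _ => Nat) (P2 p) (fun k2 _ => Nat.rec (motive := fun _ => Nat) (P3 p) (fun k3 _ => Nat.rec (motive := fun _ => Nat) (P4 p) (fun k4 _ => Nat.rec (motive := fun _ => Nat) (P5 p) (fun k5 _ => Nat.rec (motive := fun _ => Nat) (P6 p) (fun k6 _ => Nat.rec (motive := fun _ => Nat) (P7 p) (fun k7 _ => Nat.rec (motive := fun _ => Nat) (P8 p) (fun k8 _ => Nat.rec (motive := fun _ => Nat) (P9 p) (fun k9 _ => Nat.rec (motive := fun _ => Nat) (P10 p) (fun k10 _ => P11 p) k9) k8) k7) k6) k5) k4) k3) k2) k1) k0) c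
noncomputable def H0 (p : Nat) : Nat := P2 p
noncomputable def H1 (p : Nat) : Nat := P3 p
noncomputable def H2 (p : Nat) : Nat := P4 p
noncomputable def H3 (p : Nat) : Nat := P5 p
noncomputable def H4 (p : Nat) : Nat := P6 p
noncomputable def H5 (p : Nat) : Nat := P7 p
noncomputable def H6 (p : Nat) : Nat := P8 p
noncomputable def H7 (p : Nat) : Nat := P10 p
noncomputable def H8 (p : Nat) : Nat := P11 p
noncomputable def H9 (p : Nat) : Nat := P9 p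
noncomputable def H10 (p : Nat) : Nat := P0 p
noncomputable def hsel (c p : Nat) : Nat := Nat.rec (motive := fun _ => Nat) (H0 p) (fun k0 _ => Nat.rec (motive := fun _ => Nat) (H1 p) (fun k1 _ => Nat.rec (motive := fun _ => Nat) (H2 p) (fun k2 _ => Nat.rec (motive := fun _ => Nat) (H3 p) (fun k3 _ => Nat.rec (motive := fun _ => Nat) (H4 p) (fun k4 _ => Nat.rec (motive := fun _ => Nat) (H5 p) (fun k5 _ => Nat.rec (motive := fun _ => Nat) (H6 p) (fun k6 _ => Nat.rec (motive := fun _ => Nat) (H7 p) (fun k7 _ => Nat.rec (motive := fun _ => Nat) (H8 p) (fun k8 _ => Nat.rec (motive := fun _ => Nat) (H9 p) (fun k9 _ => H10 p) k8) k7) k6) k5) k4) k3) k2) k1) k0) c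
noncomputable def lab (p : Nat) : Nat := Nat.land (HR p) 15
noncomputable def rnk (p : Nat) : Nat := Nat.shiftRight (HR p) 8
noncomputable def mv (p : Nat) : Nat := hsel (Nat.land (Nat.shiftRight (HR p) 4) 15) p
noncomputable def isRoot (p : Nat) : Bool := Bool.rec (Bool.rec (Bool.rec (false) true (Nat.beq p 6)) true (Nat.beq p 1)) true (Nat.beq p 0)
noncomputable def R12 (p : Nat) : Nat := P1 (P0 (P1 (P0 (P1 (P0 p)))))
noncomputable def R13 (p : Nat) : Nat := P2 (P0 (P2 (P0 p)))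
noncomputable def R14 (p : Nat) : Nat := P3 (P0 (P3 (P0 p)))
noncomputable def R15 (p : Nat) : Nat := P4 (P0 (P4 (P0 p)))
noncomputable def R16 (p : Nat) : Nat := P5 (P0 (P5 (P0 p)))
noncomputable def R17 (p : Nat) : Nat := P6 (P0 (P6 (P0 p)))
noncomputable def R18 (p : Nat) : Nat := P7 (P0 (P7 (P0 p)))
noncomputable def R19 (p : Nat) : Nat := P8 (P0 (P8 (P0 p)))
noncomputable def R20 (p : Nat) : Nat := P9 (P0 (P9 (P0 p)))
noncomputable def R21 (p : Nat) : Nat := P10 (P0 (P10 (P0 p)))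
noncomputable def R22 (p : Nat) : Nat := P11 (P0 (P11 (P0 p)))
noncomputable def R23 (p : Nat) : Nat := P2 (P1 (P2 (P1 (P2 (P1 p)))))
noncomputable def R24 (p : Nat) : Nat := P3 (P1 (P3 (P1 p)))
noncomputable def R25 (p : Nat) : Nat := P4 (P1 (P4 (P1 p)))
noncomputable def R26 (p : Nat) : Nat := P5 (P1 (P5 (P1 p)))
noncomputable def R27 (p : Nat) : Nat := P6 (P1 (P6 (P1 p)))
noncomputable def R28 (p : Nat) : Nat := P7 (P1 (P7 (P1 p)))
noncomputable def R29 (p : Nat) : Nat := P8 (P1 (P8 (P1 p)))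
noncomputable def R30 (p : Nat) : Nat := P9 (P1 (P9 (P1 p)))
noncomputable def R31 (p : Nat) : Nat := P10 (P1 (P10 (P1 p)))
noncomputable def R32 (p : Nat) : Nat := P11 (P1 (P11 (P1 p)))
noncomputable def R33 (p : Nat) : Nat := P3 (P2 (P3 (P2 (P3 (P2 p)))))
noncomputable def R34 (p : Nat) : Nat := P4 (P2 (P4 (P2 p)))
noncomputable def R35 (p : Nat) : Nat := P5 (P2 (P5 (P2 p)))
noncomputable def R36 (p : Nat) : Nat := P6 (P2 (P6 (P2 p)))
noncomputable def R37 (p : Nat) : Nat := P7 (P2 (P7 (P2 p)))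
noncomputable def R38 (p : Nat) : Nat := P8 (P2 (P8 (P2 p)))
noncomputable def R39 (p : Nat) : Nat := P9 (P2 (P9 (P2 p)))
noncomputable def R40 (p : Nat) : Nat := P10 (P2 (P10 (P2 p)))
noncomputable def R41 (p : Nat) : Nat := P11 (P2 (P11 (P2 p)))
noncomputable def R42 (p : Nat) : Nat := P4 (P3 (P4 (P3 (P4 (P3 p)))))
noncomputable def R43 (p : Nat) : Nat := P5 (P3 (P5 (P3 p)))
noncomputable def R44 (p : Nat) : Nat := P6 (P3 (P6 (P3 p)))
noncomputable def R45 (p : Nat) : Nat := P7 (P3 (P7 (P3 p)))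
noncomputable def R46 (p : Nat) : Nat := P8 (P3 (P8 (P3 p)))
noncomputable def R47 (p : Nat) : Nat := P9 (P3 (P9 (P3 p)))
noncomputable def R48 (p : Nat) : Nat := P10 (P3 (P10 (P3 p)))
noncomputable def R49 (p : Nat) : Nat := P11 (P3 (P11 (P3 p)))
noncomputable def R50 (p : Nat) : Nat := P5 (P4 (P5 (P4 (P5 (P4 p)))))
noncomputable def R51 (p : Nat) : Nat := P6 (P4 (P6 (P4 p)))
noncomputable def R52 (p : Nat) : Nat := P7 (P4 (P7 (P4 p)))
noncomputable def R53 (p : Nat) : Nat := P8 (P4 (P8 (P4 p)))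
noncomputable def R54 (p : Nat) : Nat := P9 (P4 (P9 (P4 p)))
noncomputable def R55 (p : Nat) : Nat := P10 (P4 (P10 (P4 p)))
noncomputable def R56 (p : Nat) : Nat := P11 (P4 (P11 (P4 p)))
noncomputable def R57 (p : Nat) : Nat := P6 (P5 (P6 (P5 (P6 (P5 p)))))
noncomputable def R58 (p : Nat) : Nat := P7 (P5 (P7 (P5 p)))
noncomputable def R59 (p : Nat) : Nat := P8 (P5 (P8 (P5 p)))
noncomputable def R60 (p : Nat) : Nat := P9 (P5 (P9 (P5 p)))
noncomputable def R61 (p : Nat) : Nat := P10 (P5 (P10 (P5 (P10 (P5 p)))))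
noncomputable def R62 (p : Nat) : Nat := P11 (P5 (P11 (P5 p)))
noncomputable def R63 (p : Nat) : Nat := P7 (P6 (P7 (P6 (P7 (P6 p)))))
noncomputable def R64 (p : Nat) : Nat := P8 (P6 (P8 (P6 p)))
noncomputable def R65 (p : Nat) : Nat := P9 (P6 (P9 (P6 p)))
noncomputable def R66 (p : Nat) : Nat := P10 (P6 (P10 (P6 p)))
noncomputable def R67 (p : Nat) : Nat := P11 (P6 (P11 (P6 p)))
noncomputable def R68 (p : Nat) : Nat := P8 (P7 (P8 (P7 (P8 (P7 p)))))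
noncomputable def R69 (p : Nat) : Nat := P9 (P7 (P9 (P7 p)))
noncomputable def R70 (p : Nat) : Nat := P10 (P7 (P10 (P7 p)))
noncomputable def R71 (p : Nat) : Nat := P11 (P7 (P11 (P7 p)))
noncomputable def R72 (p : Nat) : Nat := P9 (P8 (P9 (P8 (P9 (P8 p)))))
noncomputable def R73 (p : Nat) : Nat := P10 (P8 (P10 (P8 p)))
noncomputable def R74 (p : Nat) : Nat := P11 (P8 (P11 (P8 p)))
noncomputable def R75 (p : Nat) : Nat := P10 (P9 (P10 (P9 p)))
noncomputable def R76 (p : Nat) : Nat := P11 (P9 (P11 (P9 p)))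
noncomputable def R77 (p : Nat) : Nat := P11 (P10 (P11 (P10 (P11 (P10 p)))))
noncomputable def R78 (p : Nat) : Nat := P2 (P3 (P4 (P5 (P6 (P7 (P10 (P2 (P3 (P4 (P5 (P6 (P7 (P10 (P2 (P3 (P4 (P5 (P6 (P7 (P10 (P2 (P3 (P4 (P5 (P6 (P7 (P10 (P2 (P3 (P4 (P5 (P6 (P7 (P10 (P2 (P3 (P4 (P5 (P6 (P7 (P10 (P2 (P3 (P4 (P5 (P6 (P7 (P10 (P2 (P3 (P4 (P5 (P6 (P7 (P10 (P2 (P3 (P4 (P5 (P6 (P7 (P10 (P0 p)))))))))))))))))))))))))))))))))))))))))))))))))))))))))))))))
noncomputable def U79 (p : Nat) : Nat := P11 (P10 (P5 (P9 (P8 (P7 (P6 (P5 (P0 (P1 (P2 (P3 (P4 (P5 p)))))))))))))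
noncomputable def R79 (p : Nat) : Nat := Q79 (Q79 (Q79 (Q79 (Q79 (Q79 (Q79 (Q79 (Q79 (Q79 (Q79 (Q79 (Q79 (Q79 (Q79 (Q79 (Q79 p))))))))))))))))
end Cfsg.Agent.Lib.Helper6.TCD.Fi24a
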