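import Cfsg.Agent.Lib.Helper6.TC13
import Cfsg.Agent.Lib.Helper6.TCD.Fi24a.Par
set_option autoImplicit false
set_option maxRecDepth 1000000
set_option Elab.async false
open Cfsg.Agent.Lib.Helper6.TC
namespace Cfsg.Agent.Lib.Helper6.TCD.Fi24a
theorem chkR67_5 : chkFix R67 265720 41216 = true := by decide +kernel
theorem chkR68_0 : chkFix R68 0 14189 = true := by decide +kernel
end Cfsg.Agent.Lib.Helper6.TCD.Fi24a
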