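import Cfsg.Agent.Lib.Helper6.TCD.Fi24a.CS0
import Cfsg.Agent.Lib.Helper6.TCD.Fi24a.CS1
import Cfsg.Agent.Lib.Helper6.TCD.Fi24a.CS2
import Cfsg.Agent.Lib.Helper6.TCD.Fi24a.CS3
import Cfsg.Agent.Lib.Helper6.TCD.Fi24a.CS4
import Cfsg.Agent.Lib.Helper6.TCD.Fi24a.CS5
import Cfsg.Agent.Lib.Helper6.TCD.Fi24a.CS6
import Cfsg.Agent.Lib.Helper6.TCD.Fi24a.CS7
import Cfsg.Agent.Lib.Helper6.TCD.Fi24a.CS8
import Cfsg.Agent.Lib.Helper6.TCD.Fi24a.CS9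
import Cfsg.Agent.Lib.Helper6.TCD.Fi24a.CS10
import Cfsg.Agent.Lib.Helper6.TCD.Fi24a.CS11
import Cfsg.Agent.Lib.Helper6.TCD.Fi24a.CS12
import Cfsg.Agent.Lib.Helper6.TCD.Fi24a.CS13
import Cfsg.Agent.Lib.Helper6.TCD.Fi24a.CS14
import Cfsg.Agent.Lib.Helper6.TCD.Fi24a.CS15
import Cfsg.Agent.Lib.Helper6.TCD.Fi24a.CS16
import Cfsg.Agent.Lib.Helper6.TCD.Fi24a.CS17
import Cfsg.Agent.Lib.Helper6.TCD.Fi24a.CS18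
import Cfsg.Agent.Lib.Helper6.TCD.Fi24a.CS19
import Cfsg.Agent.Lib.Helper6.TCD.Fi24a.CS20
import Cfsg.Agent.Lib.Helper6.TCD.Fi24a.CS21
import Cfsg.Agent.Lib.Helper6.TCD.Fi24a.CS22
import Cfsg.Agent.Lib.Helper6.TCD.Fi24a.CS23
import Cfsg.Agent.Lib.Helper6.TCD.Fi24a.CS24
import Cfsg.Agent.Lib.Helper6.TCD.Fi24a.CS25
import Cfsg.Agent.Lib.Helper6.TCD.Fi24a.CS26
import Cfsg.Agent.Lib.Helper6.TCD.Fi24a.CS27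
import Cfsg.Agent.Lib.Helper6.TCD.Fi24a.CS28
import Cfsg.Agent.Lib.Helper6.TCD.Fi24a.CS29
import Cfsg.Agent.Lib.Helper6.TCD.Fi24a.CS30
import Cfsg.Agent.Lib.Helper6.TCD.Fi24a.CS31
import Cfsg.Agent.Lib.Helper6.TCD.Fi24a.CS32
import Cfsg.Agent.Lib.Helper6.TCD.Fi24a.CS33
import Cfsg.Agent.Lib.Helper6.TCD.Fi24a.CS34
import Cfsg.Agent.Lib.Helper6.TCD.Fi24a.CS35
import Cfsg.Agent.Lib.Helper6.TCD.Fi24a.CS36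
import Cfsg.Agent.Lib.Helper6.TCD.Fi24a.CS37
import Cfsg.Agent.Lib.Helper6.TCD.Fi24a.CS38
import Cfsg.Agent.Lib.Helper6.TCD.Fi24a.CS39
import Cfsg.Agent.Lib.Helper6.TCD.Fi24a.CS40
import Cfsg.Agent.Lib.Helper6.TCD.Fi24a.CS41
import Cfsg.Agent.Lib.Helper6.TCD.Fi24a.CS42
import Cfsg.Agent.Lib.Helper6.TCD.Fi24a.CS43
import Cfsg.Agent.Lib.Helper6.TCD.Fi24a.CS44
import Cfsg.Agent.Lib.Helper6.TCD.Fi24a.CS45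
import Cfsg.Agent.Lib.Helper6.TCD.Fi24a.CS46
import Cfsg.Agent.Lib.Helper6.TCD.Fi24a.CS47
import Cfsg.Agent.Lib.Helper6.TCD.Fi24a.CS48
import Cfsg.Agent.Lib.Helper6.TCD.Fi24a.CS49
import Cfsg.Agent.Lib.Helper6.TCD.Fi24a.CS50
import Cfsg.Agent.Lib.Helper6.TCD.Fi24a.CS51
import Cfsg.Agent.Lib.Helper6.TCD.Fi24a.CS52
import Cfsg.Agent.Lib.Helper6.TCD.Fi24a.CS53
import Cfsg.Agent.Lib.Helper6.TCD.Fi24a.CS54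
import Cfsg.Agent.Lib.Helper6.TCD.Fi24a.CS55
import Cfsg.Agent.Lib.Helper6.TCD.Fi24a.CS56
import Cfsg.Agent.Lib.Helper6.TCD.Fi24a.CS57
import Cfsg.Agent.Lib.Helper6.TCD.Fi24a.CS58
import Cfsg.Agent.Lib.Helper6.TCD.Fi24a.CS59
import Cfsg.Agent.Lib.Helper6.TCD.Fi24a.CS60
import Cfsg.Agent.Lib.Helper6.TCD.Fi24a.CS61
import Cfsg.Agent.Lib.Helper6.TCD.Fi24a.CS62
import Cfsg.Agent.Lib.Helper6.TCD.Fi24a.CS63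
import Cfsg.Agent.Lib.Helper6.TCD.Fi24a.CS64
import Cfsg.Agent.Lib.Helper6.TCD.Fi24a.CS65
import Cfsg.Agent.Lib.Helper6.TCD.Fi24a.CS66
import Cfsg.Agent.Lib.Helper6.TCD.Fi24a.CS67
import Cfsg.Agent.Lib.Helper6.TCD.Fi24a.CS68
import Cfsg.Agent.Lib.Helper6.TCD.Fi24a.CS69
import Cfsg.Agent.Lib.Helper6.TCD.Fi24a.CS70
import Cfsg.Agent.Lib.Helper6.TCD.Fi24a.CS71
import Cfsg.Agent.Lib.Helper6.TCD.Fi24a.CS72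
import Cfsg.Agent.Lib.Helper6.TCD.Fi24a.CS73
import Cfsg.Agent.Lib.Helper6.TCD.Fi24a.CS74
import Cfsg.Agent.Lib.Helper6.TCD.Fi24a.CS75
import Cfsg.Agent.Lib.Helper6.TCD.Fi24a.CS76
import Cfsg.Agent.Lib.Helper6.TCD.Fi24a.CS77
import Cfsg.Agent.Lib.Helper6.TCD.Fi24a.CS78
import Cfsg.Agent.Lib.Helper6.TCD.Fi24a.CS79
import Cfsg.Agent.Lib.Helper6.TCD.Fi24a.CS80
import Cfsg.Agent.Lib.Helper6.TCD.Fi24a.CS81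
import Cfsg.Agent.Lib.Helper6.TCD.Fi24a.CS82
import Cfsg.Agent.Lib.Helper6.TCD.Fi24a.CS83
import Cfsg.Agent.Lib.Helper6.TCD.Fi24a.CS84
import Cfsg.Agent.Lib.Helper6.TCD.Fi24a.CS85
import Cfsg.Agent.Lib.Helper6.TCD.Fi24a.CS86
import Cfsg.Agent.Lib.Helper6.TCD.Fi24a.CS87
import Cfsg.Agent.Lib.Helper6.TCD.Fi24a.CS88
import Cfsg.Agent.Lib.Helper6.TCD.Fi24a.CS89
import Cfsg.Agent.Lib.Helper6.TCD.Fi24a.CS90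
import Cfsg.Agent.Lib.Helper6.TCD.Fi24a.CS91
import Cfsg.Agent.Lib.Helper6.TCD.Fi24a.CS92
import Cfsg.Agent.Lib.Helper6.TCD.Fi24a.CS93
import Cfsg.Agent.Lib.Helper6.TCD.Fi24a.CS94
import Cfsg.Agent.Lib.Helper6.TCD.Fi24a.CS95
import Cfsg.Agent.Lib.Helper6.TCD.Fi24a.CS96
import Cfsg.Agent.Lib.Helper6.TCD.Fi24a.CS97
import Cfsg.Agent.Lib.Helper6.TCD.Fi24a.CS98
import Cfsg.Agent.Lib.Helper6.TCD.Fi24a.CS99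
import Cfsg.Agent.Lib.Helper6.TCD.Fi24a.CS100
import Cfsg.Agent.Lib.Helper6.TCD.Fi24a.CS101
import Cfsg.Agent.Lib.Helper6.TCD.Fi24a.CS102
import Cfsg.Agent.Lib.Helper6.TCD.Fi24a.CS103
import Cfsg.Agent.Lib.Helper6.TCD.Fi24a.CS104
import Cfsg.Agent.Lib.Helper6.TCD.Fi24a.CS105
import Cfsg.Agent.Lib.Helper6.TCD.Fi24a.CS106
import Cfsg.Agent.Lib.Helper6.TCD.Fi24a.CS107
import Cfsg.Agent.Lib.Helper6.TCD.Fi24a.CS108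
import Cfsg.Agent.Lib.Helper6.TCD.Fi24a.CS109
import Cfsg.Agent.Lib.Helper6.TCD.Fi24a.CS110
import Cfsg.Agent.Lib.Helper6.TCD.Fi24a.CS111
import Cfsg.Agent.Lib.Helper6.TCD.Fi24a.CS112
import Cfsg.Agent.Lib.Helper6.TCD.Fi24a.CS113
import Cfsg.Agent.Lib.Helper6.TCD.Fi24a.CS114
import Cfsg.Agent.Lib.Helper6.TCD.Fi24a.CS115
import Cfsg.Agent.Lib.Helper6.TCD.Fi24a.CS116
import Cfsg.Agent.Lib.Helper6.TCD.Fi24a.CS117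
import Cfsg.Agent.Lib.Helper6.TCD.Fi24a.CS118
import Cfsg.Agent.Lib.Helper6.TCD.Fi24a.CS119
import Cfsg.Agent.Lib.Helper6.TCD.Fi24a.CS120
import Cfsg.Agent.Lib.Helper6.TCD.Fi24a.CS121
import Cfsg.Agent.Lib.Helper6.TCD.Fi24a.CS122
import Cfsg.Agent.Lib.Helper6.TCD.Fi24a.CS123
import Cfsg.Agent.Lib.Helper6.TCD.Fi24a.CS124
import Cfsg.Agent.Lib.Helper6.TCD.Fi24a.CS125
import Cfsg.Agent.Lib.Helper6.TCD.Fi24a.CS126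
import Cfsg.Agent.Lib.Helper6.TCD.Fi24a.CS127
import Cfsg.Agent.Lib.Helper6.TCD.Fi24a.CS128
import Cfsg.Agent.Lib.Helper6.TCD.Fi24a.CS129
import Cfsg.Agent.Lib.Helper6.TCD.Fi24a.CS130
import Cfsg.Agent.Lib.Helper6.TCD.Fi24a.CS131
import Cfsg.Agent.Lib.Helper6.TCD.Fi24a.CS132
import Cfsg.Agent.Lib.Helper6.TCD.Fi24a.CS133
import Cfsg.Agent.Lib.Helper6.TCD.Fi24a.CS134
import Cfsg.Agent.Lib.Helper6.TCD.Fi24a.CS135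
import Cfsg.Agent.Lib.Helper6.TCD.Fi24a.CS136
import Cfsg.Agent.Lib.Helper6.TCD.Fi24a.CS137
import Cfsg.Agent.Lib.Helper6.TCD.Fi24a.CS138
import Cfsg.Agent.Lib.Helper6.TCD.Fi24a.CS139
import Cfsg.Agent.Lib.Helper6.TCD.Fi24a.CS140
import Cfsg.Agent.Lib.Helper6.TCD.Fi24a.CS141
import Cfsg.Agent.Lib.Helper6.TCD.Fi24a.CS142
import Cfsg.Agent.Lib.Helper6.TCD.Fi24a.CS143
import Cfsg.Agent.Lib.Helper6.TCD.Fi24a.CS144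
import Cfsg.Agent.Lib.Helper6.TCD.Fi24a.CS145
import Cfsg.Agent.Lib.Helper6.TCD.Fi24a.CS146
import Cfsg.Agent.Lib.Helper6.TCD.Fi24a.CS147
import Cfsg.Agent.Lib.Helper6.TCD.Fi24a.CS148
import Cfsg.Agent.Lib.Helper6.TCD.Fi24a.CS149
import Cfsg.Agent.Lib.Helper6.TCD.Fi24a.CS150
import Cfsg.Agent.Lib.Helper6.TCD.Fi24a.CS151
import Cfsg.Agent.Lib.Helper6.TCD.Fi24a.CS152
import Cfsg.Agent.Lib.Helper6.TCD.Fi24a.CS153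
import Cfsg.Agent.Lib.Helper6.TCD.Fi24a.CS154
import Cfsg.Agent.Lib.Helper6.TCD.Fi24a.CS155
import Cfsg.Agent.Lib.Helper6.TCD.Fi24a.CS156
import Cfsg.Agent.Lib.Helper6.TCD.Fi24a.CS157
import Cfsg.Agent.Lib.Helper6.TCD.Fi24a.CS158
import Cfsg.Agent.Lib.Helper6.TCD.Fi24a.CS159
import Cfsg.Agent.Lib.Helper6.TCD.Fi24a.CS160
import Cfsg.Agent.Lib.Helper6.TCD.Fi24a.CS161
import Cfsg.Agent.Lib.Helper6.TCD.Fi24a.CS162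
import Cfsg.Agent.Lib.Helper6.TCD.Fi24a.CS163
import Cfsg.Agent.Lib.Helper6.TCD.Fi24a.CS164
import Cfsg.Agent.Lib.Helper6.TCD.Fi24a.CS165
import Cfsg.Agent.Lib.Helper6.TCD.Fi24a.CS166
import Cfsg.Agent.Lib.Helper6.TCD.Fi24a.CS167
import Cfsg.Agent.Lib.Helper6.TCD.Fi24a.CS168
import Cfsg.Agent.Lib.Helper6.TCD.Fi24a.CS169
import Cfsg.Agent.Lib.Helper6.TCD.Fi24a.CS170
import Cfsg.Agent.Lib.Helper6.TCD.Fi24a.CS171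
import Cfsg.Agent.Lib.Helper6.TCD.Fi24a.CS172
import Cfsg.Agent.Lib.Helper6.TCD.Fi24a.CS173
import Cfsg.Agent.Lib.Helper6.TCD.Fi24a.CS174
import Cfsg.Agent.Lib.Helper6.TCD.Fi24a.CS175
import Cfsg.Agent.Lib.Helper6.TCD.Fi24a.CS176
import Cfsg.Agent.Lib.Helper6.TCD.Fi24a.CS177
import Cfsg.Agent.Lib.Helper6.TCD.Fi24a.CS178
import Cfsg.Agent.Lib.Helper6.TCD.Fi24a.CS179
import Cfsg.Agent.Lib.Helper6.TCD.Fi24a.CS180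
import Cfsg.Agent.Lib.Helper6.TCD.Fi24a.CS181
import Cfsg.Agent.Lib.Helper6.TCD.Fi24a.CS182
import Cfsg.Agent.Lib.Helper6.TCD.Fi24a.CS183
import Cfsg.Agent.Lib.Helper6.TCD.Fi24a.CS184
import Cfsg.Agent.Lib.Helper6.TCD.Fi24a.CS185
import Cfsg.Agent.Lib.Helper6.TCD.Fi24a.CS186
import Cfsg.Agent.Lib.Helper6.TCD.Fi24a.CS187
import Cfsg.Agent.Lib.Helper6.TCD.Fi24a.CS188
import Cfsg.Agent.Lib.Helper6.TCD.Fi24a.CS189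
import Cfsg.Agent.Lib.Helper6.TCD.Fi24a.CS190
import Cfsg.Agent.Lib.Helper6.TCD.Fi24a.CS191
import Cfsg.Agent.Lib.Helper6.TCD.Fi24a.CS192
import Cfsg.Agent.Lib.Helper6.TCD.Fi24a.CS193
import Cfsg.Agent.Lib.Helper6.TCD.Fi24a.CS194
import Cfsg.Agent.Lib.Helper6.TCD.Fi24a.CS195
import Cfsg.Agent.Lib.Helper6.TCD.Fi24a.CS196
import Cfsg.Agent.Lib.Helper6.TCD.Fi24a.CS197
import Cfsg.Agent.Lib.Helper6.TCD.Fi24a.CS198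
import Cfsg.Agent.Lib.Helper6.TCD.Fi24a.CS199
import Cfsg.Agent.Lib.Helper6.TCD.Fi24a.CS200
import Cfsg.Agent.Lib.Helper6.TCD.Fi24a.CS201
import Cfsg.Agent.Lib.Helper6.TCD.Fi24a.CS202
import Cfsg.Agent.Lib.Helper6.TCD.Fi24a.CS203
import Cfsg.Agent.Lib.Helper6.TCD.Fi24a.CS204
import Cfsg.Agent.Lib.Helper6.TCD.Fi24a.CS205
import Cfsg.Agent.Lib.Helper6.TCD.Fi24a.CS206
import Cfsg.Agent.Lib.Helper6.TCD.Fi24a.CS207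
import Cfsg.Agent.Lib.Helper6.TCD.Fi24a.CS208
import Cfsg.Agent.Lib.Helper6.TCD.Fi24a.CS209
import Cfsg.Agent.Lib.Helper6.TCD.Fi24a.CS210
import Cfsg.Agent.Lib.Helper6.TCD.Fi24a.CS211
import Cfsg.Agent.Lib.Helper6.TCD.Fi24a.CS212
import Cfsg.Agent.Lib.Helper6.TCD.Fi24a.CS213
import Cfsg.Agent.Lib.Helper6.TCD.Fi24a.CS214
import Cfsg.Agent.Lib.Helper6.TCD.Fi24a.CS215
import Cfsg.Agent.Lib.Helper6.TCD.Fi24a.CS216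
import Cfsg.Agent.Lib.Helper6.TCD.Fi24a.CS217
import Cfsg.Agent.Lib.Helper6.TCD.Fi24a.CS218
import Cfsg.Agent.Lib.Helper6.TCD.Fi24a.CS219
import Cfsg.Agent.Lib.Helper6.TCD.Fi24a.CS220
import Cfsg.Agent.Lib.Helper6.TCD.Fi24a.CS221
import Cfsg.Agent.Lib.Helper6.TCD.Fi24a.CS222
import Cfsg.Agent.Lib.Helper6.TCD.Fi24a.CS223
import Cfsg.Agent.Lib.Helper6.TCD.Fi24a.CS224
import Cfsg.Agent.Lib.Helper6.TCD.Fi24a.CS225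
import Cfsg.Agent.Lib.Helper6.TCD.Fi24a.CS226
import Cfsg.Agent.Lib.Helper6.TCD.Fi24a.CS227
import Cfsg.Agent.Lib.Helper6.TCD.Fi24a.CS228
import Cfsg.Agent.Lib.Helper6.TCD.Fi24a.CS229
import Cfsg.Agent.Lib.Helper6.TCD.Fi24a.CS230
import Cfsg.Agent.Lib.Helper6.TCD.Fi24a.CS231
import Cfsg.Agent.Lib.Helper6.TCD.Fi24a.CS232
import Cfsg.Agent.Lib.Helper6.TCD.Fi24a.CS233
import Cfsg.Agent.Lib.Helper6.TCD.Fi24a.CS234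
import Cfsg.Agent.Lib.Helper6.TCD.Fi24a.CS235
import Cfsg.Agent.Lib.Helper6.TCD.Fi24a.CS236
import Cfsg.Agent.Lib.Helper6.TCD.Fi24a.CS237
import Cfsg.Agent.Lib.Helper6.TCD.Fi24a.CS238
import Cfsg.Agent.Lib.Helper6.TCD.Fi24a.CS239
import Cfsg.Agent.Lib.Helper6.TCD.Fi24a.CS240
import Cfsg.Agent.Lib.Helper6.TCD.Fi24a.CS241
import Cfsg.Agent.Lib.Helper6.TCD.Fi24a.CS242
import Cfsg.Agent.Lib.Helper6.TCD.Fi24a.CS243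
import Cfsg.Agent.Lib.Helper6.TCD.Fi24a.CS244
import Cfsg.Agent.Lib.Helper6.TCD.Fi24a.CS245
import Cfsg.Agent.Lib.Helper6.TCD.Fi24a.CS246
import Cfsg.Agent.Lib.Helper6.TCD.Fi24a.CS247
import Cfsg.Agent.Lib.Helper6.TCD.Fi24a.CS248
import Cfsg.Agent.Lib.Helper6.TCD.Fi24a.CS249
import Cfsg.Agent.Lib.Helper6.TCD.Fi24a.CS250
import Cfsg.Agent.Lib.Helper6.TCD.Fi24a.CS251
import Cfsg.Agent.Lib.Helper6.TCD.Fi24a.CS252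
import Cfsg.Agent.Lib.Helper6.TCD.Fi24a.CS253
import Cfsg.Agent.Lib.Helper6.TCD.Fi24a.CS254
import Cfsg.Agent.Lib.Helper6.TCD.Fi24a.CS255
import Cfsg.Agent.Lib.Helper6.TCD.Fi24a.CS256
import Cfsg.Agent.Lib.Helper6.TCD.Fi24a.CS257
import Cfsg.Agent.Lib.Helper6.TCD.Fi24a.CS258
import Cfsg.Agent.Lib.Helper6.TCD.Fi24a.CS259
import Cfsg.Agent.Lib.Helper6.TCD.Fi24a.CS260
import Cfsg.Agent.Lib.Helper6.TCD.Fi24a.CS261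
import Cfsg.Agent.Lib.Helper6.TCD.Fi24a.CS262
import Cfsg.Agent.Lib.Helper6.TCD.Fi24a.CS263
import Cfsg.Agent.Lib.Helper6.TCD.Fi24a.CS264
import Cfsg.Agent.Lib.Helper6.TCD.Fi24a.CS265
import Cfsg.Agent.Lib.Helper6.TCD.Fi24a.CS266
import Cfsg.Agent.Lib.Helper6.TCD.Fi24a.CS267
import Cfsg.Agent.Lib.Helper6.TCD.Fi24a.CS268
import Cfsg.Agent.Lib.Helper6.TCD.Fi24a.CS269
import Cfsg.Agent.Lib.Helper6.TCD.Fi24a.CS270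
import Cfsg.Agent.Lib.Helper6.TCD.Fi24a.CS271
import Cfsg.Agent.Lib.Helper6.TCD.Fi24a.CS272
import Cfsg.Agent.Lib.Helper6.TCD.Fi24a.CS273
import Cfsg.Agent.Lib.Helper6.TCD.Fi24a.CS274
import Cfsg.Agent.Lib.Helper6.TCD.Fi24a.CS275
import Cfsg.Agent.Lib.Helper6.TCD.Fi24a.CS276
import Cfsg.Agent.Lib.Helper6.TCD.Fi24a.CS277
import Cfsg.Agent.Lib.Helper6.TCD.Fi24a.CS278
import Cfsg.Agent.Lib.Helper6.TCD.Fi24a.CS279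
import Cfsg.Agent.Lib.Helper6.TCD.Fi24a.CS280
import Cfsg.Agent.Lib.Helper6.TCD.Fi24a.CS281
import Cfsg.Agent.Lib.Helper6.TCD.Fi24a.CS282
import Cfsg.Agent.Lib.Helper6.TCD.Fi24a.CS283
import Cfsg.Agent.Lib.Helper6.TCD.Fi24a.CS284
import Cfsg.Agent.Lib.Helper6.TCD.Fi24a.CS285
import Cfsg.Agent.Lib.Helper6.TCD.Fi24a.CS286
import Cfsg.Agent.Lib.Helper6.TCD.Fi24a.CS287
import Cfsg.Agent.Lib.Helper6.TCD.Fi24a.CS288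
import Cfsg.Agent.Lib.Helper6.TCD.Fi24a.CS289
import Cfsg.Agent.Lib.Helper6.TCD.Fi24a.CS290
import Cfsg.Agent.Lib.Helper6.TCD.Fi24a.CS291
import Cfsg.Agent.Lib.Helper6.TCD.Fi24a.CS292
import Cfsg.Agent.Lib.Helper6.TCD.Fi24a.CS293
import Cfsg.Agent.Lib.Helper6.TCD.Fi24a.CS294
import Cfsg.Agent.Lib.Helper6.TCD.Fi24a.CS295
import Cfsg.Agent.Lib.Helper6.TCD.Fi24a.CS296
import Cfsg.Agent.Lib.Helper6.TCD.Fi24a.CS297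
import Cfsg.Agent.Lib.Helper6.TCD.Fi24a.CS298
import Cfsg.Agent.Lib.Helper6.TCD.Fi24a.CS299
import Cfsg.Agent.Lib.Helper6.TCD.Fi24a.CS300
import Cfsg.Agent.Lib.Helper6.TCD.Fi24a.CS301
import Cfsg.Agent.Lib.Helper6.TCD.Fi24a.CS302
import Cfsg.Agent.Lib.Helper6.TCD.Fi24a.CS303
import Cfsg.Agent.Lib.Helper6.TCD.Fi24a.CS304
import Cfsg.Agent.Lib.Helper6.TCD.Fi24a.CS305
import Cfsg.Agent.Lib.Helper6.TCD.Fi24a.CS306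
import Cfsg.Agent.Lib.Helper6.TCD.Fi24a.CS307
import Cfsg.Agent.Lib.Helper6.TCD.Fi24a.CS308
import Cfsg.Agent.Lib.Helper6.TCD.Fi24a.CS309
import Cfsg.Agent.Lib.Helper6.TCD.Fi24a.CS310
import Cfsg.Agent.Lib.Helper6.TCD.Fi24a.CS311
import Cfsg.Agent.Lib.Helper6.TCD.Fi24a.CS312
import Cfsg.Agent.Lib.Helper6.TCD.Fi24a.CS313
import Cfsg.Agent.Lib.Helper6.TCD.Fi24a.CS314
import Cfsg.Agent.Lib.Helper6.TCD.Fi24a.CS315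
import Cfsg.Agent.Lib.Helper6.TCD.Fi24a.CS316
import Cfsg.Agent.Lib.Helper6.TCD.Fi24a.CS317
import Cfsg.Agent.Lib.Helper6.TCD.Fi24a.CS318
import Cfsg.Agent.Lib.Helper6.TCD.Fi24a.CS319
import Cfsg.Agent.Lib.Helper6.TCD.Fi24a.CS320
import Cfsg.Agent.Lib.Helper6.TCD.Fi24a.CS321
import Cfsg.Agent.Lib.Helper6.TCD.Fi24a.CS322
import Cfsg.Agent.Lib.Helper6.TCD.Fi24a.CS323
import Cfsg.Agent.Lib.Helper6.TCD.Fi24a.CS324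
import Cfsg.Agent.Lib.Helper6.TCD.Fi24a.CS325
import Cfsg.Agent.Lib.Helper6.TCD.Fi24a.CS326
import Cfsg.Agent.Lib.Helper6.TCD.Fi24a.CS327
import Cfsg.Agent.Lib.Helper6.TCD.Fi24a.CS328
import Cfsg.Agent.Lib.Helper6.TCD.Fi24a.CS329
import Cfsg.Agent.Lib.Helper6.TCD.Fi24a.CS330
import Cfsg.Agent.Lib.Helper6.TCD.Fi24a.CS331
import Cfsg.Agent.Lib.Helper6.TCD.Fi24a.CS332
import Cfsg.Agent.Lib.Helper6.TCD.Fi24a.CS333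
import Cfsg.Agent.Lib.Helper6.TCD.Fi24a.CS334
import Cfsg.Agent.Lib.Helper6.TCD.Fi24a.CS335
import Cfsg.Agent.Lib.Helper6.TCD.Fi24a.CS336
import Cfsg.Agent.Lib.Helper6.TCD.Fi24a.CS337
import Cfsg.Agent.Lib.Helper6.TCD.Fi24a.CS338
import Cfsg.Agent.Lib.Helper6.TCD.Fi24a.CS339
import Cfsg.Agent.Lib.Helper6.TCD.Fi24a.CS340
import Cfsg.Agent.Lib.Helper6.TCD.Fi24a.CS341
import Cfsg.Agent.Lib.Helper6.TCD.Fi24a.CS342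
import Cfsg.Agent.Lib.Helper6.TCD.Fi24a.CS343
import Cfsg.Agent.Lib.Helper6.TCD.Fi24a.CS344
import Cfsg.Agent.Lib.Helper6.TCD.Fi24a.CS345
import Cfsg.Agent.Lib.Helper6.TCD.Fi24a.CS346
import Cfsg.Agent.Lib.Helper6.TCD.Fi24a.CS347
import Cfsg.Agent.Lib.Helper6.TCD.Fi24a.CS348
import Cfsg.Agent.Lib.Helper6.TCD.Fi24a.CS349
import Cfsg.Agent.Lib.Helper6.TCD.Fi24a.CS350
import Cfsg.Agent.Lib.Helper6.TCD.Fi24a.CS351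
import Cfsg.Agent.Lib.Helper6.TCD.Fi24a.CS352
import Cfsg.Agent.Lib.Helper6.TCD.Fi24a.CS353
import Cfsg.Agent.Lib.Helper6.TCD.Fi24a.CS354
import Cfsg.Agent.Lib.Helper6.TCD.Fi24a.CS355
import Cfsg.Agent.Lib.Helper6.TCD.Fi24a.CS356
import Cfsg.Agent.Lib.Helper6.TCD.Fi24a.CS357
import Cfsg.Agent.Lib.Helper6.TCD.Fi24a.CS358
import Cfsg.Agent.Lib.Helper6.TCD.Fi24a.CS359
import Cfsg.Agent.Lib.Helper6.TCD.Fi24a.CS360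
import Cfsg.Agent.Lib.Helper6.TCD.Fi24a.CS361
import Cfsg.Agent.Lib.Helper6.TCD.Fi24a.CS362
import Cfsg.Agent.Lib.Helper6.TCD.Fi24a.CS363
import Cfsg.Agent.Lib.Helper6.TCD.Fi24a.CS364
import Cfsg.Agent.Lib.Helper6.TCD.Fi24a.CS365
import Cfsg.Agent.Lib.Helper6.TCD.Fi24a.CS366
import Cfsg.Agent.Lib.Helper6.TCD.Fi24a.CS367
import Cfsg.Agent.Lib.Helper6.TCD.Fi24a.CS368
import Cfsg.Agent.Lib.Helper6.TCD.Fi24a.CS369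
import Cfsg.Agent.Lib.Helper6.TCD.Fi24a.CS370
import Cfsg.Agent.Lib.Helper6.TCD.Fi24a.CS371
import Cfsg.Agent.Lib.Helper6.TCD.Fi24a.CS372
import Cfsg.Agent.Lib.Helper6.TCD.Fi24a.CS373
import Cfsg.Agent.Lib.Helper6.TCD.Fi24a.CS374
import Cfsg.Agent.Lib.Helper6.TCD.Fi24a.CS375
import Cfsg.Agent.Lib.Helper6.TCD.Fi24a.CS376
import Cfsg.Agent.Lib.Helper6.TCD.Fi24a.CS377
import Cfsg.Agent.Lib.Helper6.TCD.Fi24a.CS378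
import Cfsg.Agent.Lib.Helper6.TCD.Fi24a.CS379
import Cfsg.Agent.Lib.Helper6.TCD.Fi24a.CS380
import Cfsg.Agent.Lib.Helper6.TCD.Fi24a.CS381
import Cfsg.Agent.Lib.Helper6.TCD.Fi24a.CS382
import Cfsg.Agent.Lib.Helper6.TCD.Fi24a.CS383
import Cfsg.Agent.Lib.Helper6.TCD.Fi24a.CS384
import Cfsg.Agent.Lib.Helper6.TCD.Fi24a.CS385
import Cfsg.Agent.Lib.Helper6.TCD.Fi24a.CS386
import Cfsg.Agent.Lib.Helper6.TCD.Fi24a.CS387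
import Cfsg.Agent.Lib.Helper6.TCD.Fi24a.CS388
import Cfsg.Agent.Lib.Helper6.TCD.Fi24a.CS389
import Cfsg.Agent.Lib.Helper6.TCD.Fi24a.CS390
import Cfsg.Agent.Lib.Helper6.TCD.Fi24a.CS391
import Cfsg.Agent.Lib.Helper6.TCD.Fi24a.CS392
import Cfsg.Agent.Lib.Helper6.TCD.Fi24a.CS393
import Cfsg.Agent.Lib.Helper6.TCD.Fi24a.CS394
import Cfsg.Agent.Lib.Helper6.TCD.Fi24a.CS395
import Cfsg.Agent.Lib.Helper6.TCD.Fi24a.CS396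
import Cfsg.Agent.Lib.Helper6.TCD.Fi24a.CS397
import Cfsg.Agent.Lib.Helper6.TCD.Fi24a.CS398
import Cfsg.Agent.Lib.Helper6.TCD.Fi24a.CS399
import Cfsg.Agent.Lib.Helper6.TCD.Fi24a.CS400
import Cfsg.Agent.Lib.Helper6.TCD.Fi24a.CS401
import Cfsg.Agent.Lib.Helper6.TCD.Fi24a.CS402
import Cfsg.Agent.Lib.Helper6.TCD.Fi24a.CS403
import Cfsg.Agent.Lib.Helper6.TCD.Fi24a.CS404
import Cfsg.Agent.Lib.Helper6.TCD.Fi24a.CS405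
import Cfsg.Agent.Lib.Helper6.TCD.Fi24a.CS406
import Cfsg.Agent.Lib.Helper6.TCD.Fi24a.CS407
import Cfsg.Agent.Lib.Helper6.TCD.Fi24a.CS408
import Cfsg.Agent.Lib.Helper6.TCD.Fi24a.CS409
import Cfsg.Agent.Lib.Helper6.TCD.Fi24a.CS410
import Cfsg.Agent.Lib.Helper6.TCD.Fi24a.CS411
import Cfsg.Agent.Lib.Helper6.TCD.Fi24a.CS412
import Cfsg.Agent.Lib.Helper6.TCD.Fi24a.CS413
import Cfsg.Agent.Lib.Helper6.TCD.Fi24a.CS414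
import Cfsg.Agent.Lib.Helper6.TCD.Fi24a.CS415
import Cfsg.Agent.Lib.Helper6.TCD.Fi24a.CS416
import Cfsg.Agent.Lib.Helper6.TCD.Fi24a.CS417
import Cfsg.Agent.Lib.Helper6.TCD.Fi24a.CS418
import Cfsg.Agent.Lib.Helper6.TCD.Fi24a.CS419
import Cfsg.Agent.Lib.Helper6.TCD.Fi24a.CS420
import Cfsg.Agent.Lib.Helper6.TCD.Fi24a.CS421
import Cfsg.Agent.Lib.Helper6.TCD.Fi24a.CS422
import Cfsg.Agent.Lib.Helper6.TCD.Fi24a.CS423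
import Cfsg.Agent.Lib.Helper6.TCD.Fi24a.CS424
import Cfsg.Agent.Lib.Helper6.TCD.Fi24a.CS425
import Cfsg.Agent.Lib.Helper6.TCD.Fi24a.CS426
import Cfsg.Agent.Lib.Helper6.TCD.Fi24a.CS427
import Cfsg.Agent.Lib.Helper6.TCD.Fi24a.CS428
import Cfsg.Agent.Lib.Helper6.TCD.Fi24a.CS429
import Cfsg.Agent.Lib.Helper6.TCD.Fi24a.CS430
import Cfsg.Agent.Lib.Helper6.TCD.Fi24a.CS431
import Cfsg.Agent.Lib.Helper6.TCD.Fi24a.CS432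
import Cfsg.Agent.Lib.Helper6.TCD.Fi24a.CS433
import Cfsg.Agent.Lib.Helper6.TCD.Fi24a.CS434
import Cfsg.Agent.Lib.Helper6.TCD.Fi24a.CS435
import Cfsg.Agent.Lib.Helper6.TCD.Fi24a.CS436
import Cfsg.Agent.Lib.Helper6.TCD.Fi24a.CS437
import Cfsg.Agent.Lib.Helper6.TCD.Fi24a.CS438
import Cfsg.Agent.Lib.Helper6.TCD.Fi24a.CS439
import Cfsg.Agent.Lib.Helper6.TCD.Fi24a.CS440
import Cfsg.Agent.Lib.Helper6.TCD.Fi24a.CS441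
import Cfsg.Agent.Lib.Helper6.TCD.Fi24a.CS442
import Cfsg.Agent.Lib.Helper6.TCD.Fi24a.CS443
import Cfsg.Agent.Lib.Helper6.TCD.Fi24a.CS444
import Cfsg.Agent.Lib.Helper6.TCD.Fi24a.CS445
import Cfsg.Agent.Lib.Helper6.TCD.Fi24a.CS446
import Cfsg.Agent.Lib.Helper6.TCD.Fi24a.CS447
import Cfsg.Agent.Lib.Helper6.TCD.Fi24a.CS448
import Cfsg.Agent.Lib.Helper6.TCD.Fi24a.CS449
import Cfsg.Agent.Lib.Helper6.TCD.Fi24a.CS450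
import Cfsg.Agent.Lib.Helper6.TCD.Fi24a.CS451
import Cfsg.Agent.Lib.Helper6.TCD.Fi24a.CS452
import Cfsg.Agent.Lib.Helper6.TCD.Fi24a.CS453
import Cfsg.Agent.Lib.Helper6.TCD.Fi24a.CS454
import Cfsg.Agent.Lib.Helper6.TCD.Fi24a.CS455
import Cfsg.Agent.Lib.Helper6.TCD.Fi24a.CS456
import Cfsg.Agent.Lib.Helper6.TCD.Fi24a.CS457
import Cfsg.Agent.Lib.Helper6.TCD.Fi24a.CS458
import Cfsg.Agent.Lib.Helper6.TCD.Fi24a.CS459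
import Cfsg.Agent.Lib.Helper6.TCD.Fi24a.CS460
import Cfsg.Agent.Lib.Helper6.TCD.Fi24a.CS461
import Cfsg.Agent.Lib.Helper6.TCD.Fi24a.CS462
import Cfsg.Agent.Lib.Helper6.TCD.Fi24a.CS463
import Cfsg.Agent.Lib.Helper6.TCD.Fi24a.CS464
import Cfsg.Agent.Lib.Helper6.TCD.Fi24a.CS465
import Cfsg.Agent.Lib.Helper6.TCD.Fi24a.CS466
import Cfsg.Agent.Lib.Helper6.TCD.Fi24a.CS467
import Cfsg.Agent.Lib.Helper6.TCD.Fi24a.CS468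
import Cfsg.Agent.Lib.Helper6.TCD.Fi24a.CS469
import Cfsg.Agent.Lib.Helper6.TCD.Fi24a.CS470
import Cfsg.Agent.Lib.Helper6.TCD.Fi24a.CS471
import Cfsg.Agent.Lib.Helper6.TCD.Fi24a.CS472
import Cfsg.Agent.Lib.Helper6.TCD.Fi24a.CS473
import Cfsg.Agent.Lib.Helper6.TCD.Fi24a.CS474
import Cfsg.Agent.Lib.Helper6.TCD.Fi24a.CS475
import Cfsg.Agent.Lib.Helper6.TCD.Fi24a.CS476
import Cfsg.Agent.Lib.Helper6.TCD.Fi24a.CS477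
import Cfsg.Agent.Lib.Helper6.TCD.Fi24a.CS478
import Cfsg.Agent.Lib.Helper6.TCD.Fi24a.CS479
import Cfsg.Agent.Lib.Helper6.TCD.Fi24a.CS480
import Cfsg.Agent.Lib.Helper6.TCD.Fi24a.CS481
import Cfsg.Agent.Lib.Helper6.TCD.Fi24a.CS482
import Cfsg.Agent.Lib.Helper6.TCD.Fi24a.CS483
import Cfsg.Agent.Lib.Helper6.TCD.Fi24a.CS484
import Cfsg.Agent.Lib.Helper6.TCD.Fi24a.CS485
import Cfsg.Agent.Lib.Helper6.TCD.Fi24a.CS486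
import Cfsg.Agent.Lib.Helper6.TCD.Fi24a.CS487
import Cfsg.Agent.Lib.Helper6.TCD.Fi24a.CS488
import Cfsg.Agent.Lib.Helper6.TCD.Fi24a.CS489
import Cfsg.Agent.Lib.Helper6.TCD.Fi24a.CS490
import Cfsg.Agent.Lib.Helper6.TCD.Fi24a.CS491
import Cfsg.Agent.Lib.Helper6.TCD.Fi24a.CS492
import Cfsg.Agent.Lib.Helper6.TCD.Fi24a.CS493
import Cfsg.Agent.Lib.Helper6.TCD.Fi24a.CS494
import Cfsg.Agent.Lib.Helper6.TCD.Fi24a.CS495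
import Cfsg.Agent.Lib.Helper6.TCD.Fi24a.CS496
import Cfsg.Agent.Lib.Helper6.TCD.Fi24a.CS497
import Cfsg.Agent.Lib.Helper6.TCD.Fi24a.CS498
import Cfsg.Agent.Lib.Helper6.TCD.Fi24a.CS499
import Cfsg.Agent.Lib.Helper6.TCD.Fi24a.CS500
import Cfsg.Agent.Lib.Helper6.TCD.Fi24a.CS501
import Cfsg.Agent.Lib.Helper6.TCD.Fi24a.CS502
import Cfsg.Agent.Lib.Helper6.TCD.Fi24a.CS503
import Cfsg.Agent.Lib.Helper6.TCD.Fi24a.CS504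
import Cfsg.Agent.Lib.Helper6.TCD.Fi24a.CS505
import Cfsg.Agent.Lib.Helper6.TCD.Fi24a.CS506
import Cfsg.Agent.Lib.Helper6.TCD.Fi24a.CS507
import Cfsg.Agent.Lib.Helper6.TCD.Fi24a.CS508
import Cfsg.Agent.Lib.Helper6.TCD.Fi24a.CS509
import Cfsg.Agent.Lib.Helper6.TCD.Fi24a.CS510
import Cfsg.Agent.Lib.Helper6.TCD.Fi24a.CS511
import Cfsg.Agent.Lib.Helper6.TCD.Fi24a.CS512
import Cfsg.Agent.Lib.Helper6.TCD.Fi24a.CS513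
import Cfsg.Agent.Lib.Helper6.TCD.Fi24a.CS514
import Cfsg.Agent.Lib.Helper6.TCD.Fi24a.CS515
import Cfsg.Agent.Lib.Helper6.TCD.Fi24a.CS516
import Cfsg.Agent.Lib.Helper6.TCD.Fi24a.CS517
import Cfsg.Agent.Lib.Helper6.TCD.Fi24a.CS518
import Cfsg.Agent.Lib.Helper6.TCD.Fi24a.CS519
import Cfsg.Agent.Lib.Helper6.TCD.Fi24a.CS520
import Cfsg.Agent.Lib.Helper6.TCD.Fi24a.CS521
import Cfsg.Agent.Lib.Helper6.TCD.Fi24a.CS522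
import Cfsg.Agent.Lib.Helper6.TCD.Fi24a.CS523
import Cfsg.Agent.Lib.Helper6.TCD.Fi24a.CS524
import Cfsg.Agent.Lib.Helper6.TCD.Fi24a.CS525
import Cfsg.Agent.Lib.Helper6.TCD.Fi24a.CS526
import Cfsg.Agent.Lib.Helper6.TCD.Fi24a.CS527
import Cfsg.Agent.Lib.Helper6.TCD.Fi24a.CS528
import Cfsg.Agent.Lib.Helper6.TCD.Fi24a.CS529
import Cfsg.Agent.Lib.Helper6.TCD.Fi24a.CS530
import Cfsg.Agent.Lib.Helper6.TCD.Fi24a.CS531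
import Cfsg.Agent.Lib.Helper6.TCD.Fi24a.CS532
import Cfsg.Agent.Lib.Helper6.TCD.Fi24a.CS533
import Cfsg.Agent.Lib.Helper6.TCD.Fi24a.CS534
import Cfsg.Agent.Lib.Helper6.TCD.Fi24a.CS535
import Cfsg.Agent.Lib.Helper6.TCD.Fi24a.CS536
import Cfsg.Agent.Lib.Helper6.TCD.Fi24a.CS537
import Cfsg.Agent.Lib.Helper6.TCD.Fi24a.CS538
import Cfsg.Agent.Lib.Helper6.TCD.Fi24a.CS539
import Cfsg.Agent.Lib.Helper6.TCD.Fi24a.CS540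
import Cfsg.Agent.Lib.Helper6.TCD.Fi24a.CS541
import Cfsg.Agent.Lib.Helper6.TCD.Fi24a.CS542
import Cfsg.Agent.Lib.Helper6.TCD.Fi24a.CS543
import Cfsg.Agent.Lib.Helper6.TCD.Fi24a.CS544
import Cfsg.Agent.Lib.Helper6.TCD.Fi24a.CS545
import Cfsg.Agent.Lib.Helper6.TCD.Fi24a.CS546
import Cfsg.Agent.Lib.Helper6.TCD.Fi24a.CS547
import Cfsg.Agent.Lib.Helper6.TCD.Fi24a.CS548
import Cfsg.Agent.Lib.Helper6.TCD.Fi24a.CS549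
import Cfsg.Agent.Lib.Helper6.TCD.Fi24a.CS550
import Cfsg.Agent.Lib.Helper6.TCD.Fi24a.CS551
import Cfsg.Agent.Lib.Helper6.TCD.Fi24a.CS552
import Cfsg.Agent.Lib.Helper6.TCD.Fi24a.CS553
import Cfsg.Agent.Lib.Helper6.TCD.Fi24a.CS554
import Cfsg.Agent.Lib.Helper6.TCD.Fi24a.CS555
import Cfsg.Agent.Lib.Helper6.TCD.Fi24a.CS556
import Cfsg.Agent.Lib.Helper6.TCD.Fi24a.CS557
import Cfsg.Agent.Lib.Helper6.TCD.Fi24a.CS558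
import Cfsg.Agent.Lib.Helper6.TCD.Fi24a.CS559
import Cfsg.Agent.Lib.Helper6.TCD.Fi24a.CS560
import Cfsg.Agent.Lib.Helper6.TCD.Fi24a.CS561
import Cfsg.Agent.Lib.Helper6.TCD.Fi24a.CS562
import Cfsg.Agent.Lib.Helper6.TCD.Fi24a.CS563
import Cfsg.Agent.Lib.Helper6.TCD.Fi24a.CS564
import Cfsg.Agent.Lib.Helper6.TCD.Fi24a.CS565
import Cfsg.Agent.Lib.Helper6.TCD.Fi24a.CS566
import Cfsg.Agent.Lib.Helper6.TCD.Fi24a.CS567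
import Cfsg.Agent.Lib.Helper6.TCD.Fi24a.CS568
import Cfsg.Agent.Lib.Helper6.TCD.Fi24a.CS569
import Cfsg.Agent.Lib.Helper6.TCD.Fi24a.CS570
import Cfsg.Agent.Lib.Helper6.TCD.Fi24a.CS571
import Cfsg.Agent.Lib.Helper6.TCD.Fi24a.CS572
import Cfsg.Agent.Lib.Helper6.TCD.Fi24a.CS573
import Cfsg.Agent.Lib.Helper6.TCD.Fi24a.CS574
import Cfsg.Agent.Lib.Helper6.TCD.Fi24a.CS575
import Cfsg.Agent.Lib.Helper6.TCD.Fi24a.CS576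
import Cfsg.Agent.Lib.Helper6.TCD.Fi24a.CS577
import Cfsg.Agent.Lib.Helper6.TCD.Fi24a.CS578
import Cfsg.Agent.Lib.Helper6.TCD.Fi24a.CS579
import Cfsg.Agent.Lib.Helper6.TCD.Fi24a.CS580
import Cfsg.Agent.Lib.Helper6.TCD.Fi24a.CS581
import Cfsg.Agent.Lib.Helper6.TCD.Fi24a.CS582
import Cfsg.Agent.Lib.Helper6.TCD.Fi24a.CS583
import Cfsg.Agent.Lib.Helper6.TCD.Fi24a.CS584
import Cfsg.Agent.Lib.Helper6.TCD.Fi24a.CS585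
import Cfsg.Agent.Lib.Helper6.TCD.Fi24a.CS586
import Cfsg.Agent.Lib.Helper6.TCD.Fi24a.CS587
import Cfsg.Agent.Lib.Helper6.TCD.Fi24a.CS588
import Cfsg.Agent.Lib.Helper6.TCD.Fi24a.CS589
import Cfsg.Agent.Lib.Helper6.TCD.Fi24a.CS590
import Cfsg.Agent.Lib.Helper6.TCD.Fi24a.CS591
import Cfsg.Agent.Lib.Helper6.TCD.Fi24a.CN0
import Cfsg.Agent.Lib.Helper6.TCD.Fi24a.CN1
import Cfsg.Agent.Lib.Helper6.TCD.Fi24a.CN2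
import Cfsg.Agent.Lib.Helper6.TCD.Fi24a.CN3
import Cfsg.Agent.Lib.Helper6.TCD.Fi24a.CN4
import Cfsg.Agent.Lib.Helper6.TCD.Fi24a.CN5
import Cfsg.Agent.Lib.Helper6.TCD.Fi24a.CN6
import Cfsg.Agent.Lib.Helper6.TCD.Fi24a.CN7
import Cfsg.Agent.Lib.Helper6.TCD.Fi24a.CN8
import Cfsg.Agent.Lib.Helper6.TCD.Fi24a.CN9
import Cfsg.Agent.Lib.Helper6.TCD.Fi24a.CN10
import Cfsg.Agent.Lib.Helper6.TCD.Fi24a.CN11
import Cfsg.Agent.Lib.Helper6.TCD.Fi24a.CN12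
import Cfsg.Agent.Lib.Helper6.TCD.Fi24a.CN13
import Cfsg.Agent.Lib.Helper6.TCD.Fi24a.CN14
import Cfsg.Agent.Lib.Helper6.TCD.Fi24a.CN15
import Cfsg.Agent.Lib.Helper6.TCD.Fi24a.CN16
import Cfsg.Agent.Lib.Helper6.TCD.Fi24a.CN17
import Cfsg.Agent.Lib.Helper6.TCD.Fi24a.CN18
import Cfsg.Agent.Lib.Helper6.TCD.Fi24a.CN19
import Cfsg.Agent.Lib.Helper6.TCD.Fi24a.CN20
import Cfsg.Agent.Lib.Helper6.TCD.Fi24a.CN21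
import Cfsg.Agent.Lib.Helper6.TCD.Fi24a.CN22
import Cfsg.Agent.Lib.Helper6.TCD.Fi24a.CN23
import Cfsg.Agent.Lib.Helper6.TCD.Fi24a.CN24
import Cfsg.Agent.Lib.Helper6.TCD.Fi24a.CN25
import Cfsg.Agent.Lib.Helper6.TCD.Fi24a.CN26
import Cfsg.Agent.Lib.Helper6.TCD.Fi24a.CN27
import Cfsg.Agent.Lib.Helper6.TCD.Fi24a.CN28
import Cfsg.Agent.Lib.Helper6.TCD.Fi24a.CN29
import Cfsg.Agent.Lib.Helper6.TCD.Fi24a.CN30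
import Cfsg.Agent.Lib.Helper6.TCD.Fi24a.CN31
import Cfsg.Agent.Lib.Helper6.TCD.Fi24a.CN32
import Cfsg.Agent.Lib.Helper6.TCD.Fi24a.CN33
import Cfsg.Agent.Lib.Helper6.TCD.Fi24a.CN34
import Cfsg.Agent.Lib.Helper6.TCD.Fi24a.CN35
import Cfsg.Agent.Lib.Helper6.TCD.Fi24a.CN36
import Cfsg.Agent.Lib.Helper6.TCD.Fi24a.CN37
import Cfsg.Agent.Lib.Helper6.TCD.Fi24a.CN38
import Cfsg.Agent.Lib.Helper6.TCD.Fi24a.CN39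
import Cfsg.Agent.Lib.Helper6.TCD.Fi24a.CN40
import Cfsg.Agent.Lib.Helper6.TCD.Fi24a.CN41
import Cfsg.Agent.Lib.Helper6.TCD.Fi24a.CN42
import Cfsg.Agent.Lib.Helper6.TCD.Fi24a.CN43
import Cfsg.Agent.Lib.Helper6.TCD.Fi24a.CN44
import Cfsg.Agent.Lib.Helper6.TCD.Fi24a.CN45
import Cfsg.Agent.Lib.Helper6.TCD.Fi24a.CN46
import Cfsg.Agent.Lib.Helper6.TCD.Fi24a.CN47
import Cfsg.Agent.Lib.Helper6.TCD.Fi24a.CN48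
import Cfsg.Agent.Lib.Helper6.TCD.Fi24a.CN49
import Cfsg.Agent.Lib.Helper6.TCD.Fi24a.CN50
import Cfsg.Agent.Lib.Helper6.TCD.Fi24a.CN51
import Cfsg.Agent.Lib.Helper6.TCD.Fi24a.CN52
import Cfsg.Agent.Lib.Helper6.TCD.Fi24a.CN53
import Cfsg.Agent.Lib.Helper6.TCD.Fi24a.CN54
import Cfsg.Agent.Lib.Helper6.TCD.Fi24a.CN55
import Cfsg.Agent.Lib.Helper6.TCD.Fi24a.CN56
import Cfsg.Agent.Lib.Helper6.TCD.Fi24a.CN57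
import Cfsg.Agent.Lib.Helper6.TCD.Fi24a.CN58
import Cfsg.Agent.Lib.Helper6.TCD.Fi24a.CN59
import Cfsg.Agent.Lib.Helper6.TCD.Fi24a.CN60
import Cfsg.Agent.Lib.Helper6.TCD.Fi24a.CN61
import Cfsg.Agent.Lib.Helper6.TCD.Fi24a.CN62
import Cfsg.Agent.Lib.Helper6.TCD.Fi24a.CN63
import Cfsg.Agent.Lib.Helper6.TCD.Fi24a.CN64
import Cfsg.Agent.Lib.Helper6.TCD.Fi24a.CN65
import Cfsg.Agent.Lib.Helper6.TCD.Fi24a.CC
import Cfsg.Agent.Lib.Helper6.TCD.Fi24a.CPa0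
import Cfsg.Agent.Lib.Helper6.TCD.Fi24a.CPa1
import Cfsg.Agent.Lib.Helper6.TCD.Fi24a.CPa2
import Cfsg.Agent.Lib.Helper6.TCD.Fi24a.CPa3
import Cfsg.Agent.Lib.Helper6.TCD.Fi24a.CPa4
import Cfsg.Agent.Lib.Helper6.TCD.Fi24a.CPa5
import Cfsg.Agent.Lib.Helper6.TCD.Fi24a.CPa6
import Cfsg.Agent.Lib.Helper6.TCD.Fi24a.CPa7
import Cfsg.Agent.Lib.Helper6.TCD.Fi24a.CPa8
import Cfsg.Agent.Lib.Helper6.TCD.Fi24a.CPa9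
import Cfsg.Agent.Lib.Helper6.TCD.Fi24a.CPa10
import Cfsg.Agent.Lib.Helper6.TCD.Fi24a.CPa11
import Cfsg.Agent.Lib.Helper6.TCD.Fi24a.CPb
import Cfsg.Agent.Lib.Helper6.TCD.Fi24a.CPc0
import Cfsg.Agent.Lib.Helper6.TCD.Fi24a.CPc1
import Cfsg.Agent.Lib.Helper6.TCD.Fi24a.CPc2
import Cfsg.Agent.Lib.Helper6.TCD.Fi24a.CPc3
import Cfsg.Agent.Lib.Helper6.TCD.Fi24a.CPc4
import Cfsg.Agent.Lib.Helper6.TCD.Fi24a.CPc5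
import Cfsg.Agent.Lib.Helper6.TCD.Fi24a.CPc6
import Cfsg.Agent.Lib.Helper6.TCD.Fi24a.CPc7
import Cfsg.Agent.Lib.Helper6.TCD.Fi24a.CPc8
import Cfsg.Agent.Lib.Helper6.TCD.Fi24a.CPc9
import Cfsg.Agent.Lib.Helper6.TCD.Fi24a.CPc10
import Cfsg.Agent.Lib.Helper6.TCD.Fi24a.CR0
import Cfsg.Agent.Lib.Helper6.TCD.Fi24a.CR1
import Cfsg.Agent.Lib.Helper6.TCD.Fi24a.CR2
import Cfsg.Agent.Lib.Helper6.TCD.Fi24a.CR3
import Cfsg.Agent.Lib.Helper6.TCD.Fi24a.CR4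
import Cfsg.Agent.Lib.Helper6.TCD.Fi24a.CR5
import Cfsg.Agent.Lib.Helper6.TCD.Fi24a.CR6
import Cfsg.Agent.Lib.Helper6.TCD.Fi24a.CR7
import Cfsg.Agent.Lib.Helper6.TCD.Fi24a.CR8
import Cfsg.Agent.Lib.Helper6.TCD.Fi24a.CR9
import Cfsg.Agent.Lib.Helper6.TCD.Fi24a.CR10
import Cfsg.Agent.Lib.Helper6.TCD.Fi24a.CR11
import Cfsg.Agent.Lib.Helper6.TCD.Fi24a.CR12
import Cfsg.Agent.Lib.Helper6.TCD.Fi24a.CR13
import Cfsg.Agent.Lib.Helper6.TCD.Fi24a.CR14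
import Cfsg.Agent.Lib.Helper6.TCD.Fi24a.CR15
import Cfsg.Agent.Lib.Helper6.TCD.Fi24a.CR16
import Cfsg.Agent.Lib.Helper6.TCD.Fi24a.CR17
import Cfsg.Agent.Lib.Helper6.TCD.Fi24a.CR18
import Cfsg.Agent.Lib.Helper6.TCD.Fi24a.CR19
import Cfsg.Agent.Lib.Helper6.TCD.Fi24a.CR20
import Cfsg.Agent.Lib.Helper6.TCD.Fi24a.CR21
import Cfsg.Agent.Lib.Helper6.TCD.Fi24a.CR22
import Cfsg.Agent.Lib.Helper6.TCD.Fi24a.CR23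
import Cfsg.Agent.Lib.Helper6.TCD.Fi24a.CR24
import Cfsg.Agent.Lib.Helper6.TCD.Fi24a.CR25
import Cfsg.Agent.Lib.Helper6.TCD.Fi24a.CR26
import Cfsg.Agent.Lib.Helper6.TCD.Fi24a.CR27
import Cfsg.Agent.Lib.Helper6.TCD.Fi24a.CR28
import Cfsg.Agent.Lib.Helper6.TCD.Fi24a.CR29
import Cfsg.Agent.Lib.Helper6.TCD.Fi24a.CR30
import Cfsg.Agent.Lib.Helper6.TCD.Fi24a.CR31
import Cfsg.Agent.Lib.Helper6.TCD.Fi24a.CR32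
import Cfsg.Agent.Lib.Helper6.TCD.Fi24a.CR33
import Cfsg.Agent.Lib.Helper6.TCD.Fi24a.CR34
import Cfsg.Agent.Lib.Helper6.TCD.Fi24a.CR35
import Cfsg.Agent.Lib.Helper6.TCD.Fi24a.CR36
import Cfsg.Agent.Lib.Helper6.TCD.Fi24a.CR37
import Cfsg.Agent.Lib.Helper6.TCD.Fi24a.CR38
import Cfsg.Agent.Lib.Helper6.TCD.Fi24a.CR39
import Cfsg.Agent.Lib.Helper6.TCD.Fi24a.CR40
import Cfsg.Agent.Lib.Helper6.TCD.Fi24a.CR41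
import Cfsg.Agent.Lib.Helper6.TCD.Fi24a.CR42
import Cfsg.Agent.Lib.Helper6.TCD.Fi24a.CR43
import Cfsg.Agent.Lib.Helper6.TCD.Fi24a.CR44
import Cfsg.Agent.Lib.Helper6.TCD.Fi24a.CR45
import Cfsg.Agent.Lib.Helper6.TCD.Fi24a.CR46
import Cfsg.Agent.Lib.Helper6.TCD.Fi24a.CR47
import Cfsg.Agent.Lib.Helper6.TCD.Fi24a.CR48
import Cfsg.Agent.Lib.Helper6.TCD.Fi24a.CR49
import Cfsg.Agent.Lib.Helper6.TCD.Fi24a.CR50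
import Cfsg.Agent.Lib.Helper6.TCD.Fi24a.CR51
import Cfsg.Agent.Lib.Helper6.TCD.Fi24a.CR52
import Cfsg.Agent.Lib.Helper6.TCD.Fi24a.CR53
import Cfsg.Agent.Lib.Helper6.TCD.Fi24a.CR54
import Cfsg.Agent.Lib.Helper6.TCD.Fi24a.CR55
import Cfsg.Agent.Lib.Helper6.TCD.Fi24a.CR56
import Cfsg.Agent.Lib.Helper6.TCD.Fi24a.CR57
import Cfsg.Agent.Lib.Helper6.TCD.Fi24a.CR58
import Cfsg.Agent.Lib.Helper6.TCD.Fi24a.CR59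
import Cfsg.Agent.Lib.Helper6.TCD.Fi24a.CR60
import Cfsg.Agent.Lib.Helper6.TCD.Fi24a.CR61
import Cfsg.Agent.Lib.Helper6.TCD.Fi24a.CR62
import Cfsg.Agent.Lib.Helper6.TCD.Fi24a.CR63
import Cfsg.Agent.Lib.Helper6.TCD.Fi24a.CR64
import Cfsg.Agent.Lib.Helper6.TCD.Fi24a.CR65
import Cfsg.Agent.Lib.Helper6.TCD.Fi24a.CR66
import Cfsg.Agent.Lib.Helper6.TCD.Fi24a.CR67
import Cfsg.Agent.Lib.Helper6.TCD.Fi24a.CR68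
import Cfsg.Agent.Lib.Helper6.TCD.Fi24a.CR69
import Cfsg.Agent.Lib.Helper6.TCD.Fi24a.CR70
import Cfsg.Agent.Lib.Helper6.TCD.Fi24a.CR71
import Cfsg.Agent.Lib.Helper6.TCD.Fi24a.CR72
import Cfsg.Agent.Lib.Helper6.TCD.Fi24a.CR73
import Cfsg.Agent.Lib.Helper6.TCD.Fi24a.CR74
import Cfsg.Agent.Lib.Helper6.TCD.Fi24a.CR75
import Cfsg.Agent.Lib.Helper6.TCD.Fi24a.CR76
import Cfsg.Agent.Lib.Helper6.TCD.Fi24a.CR77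
import Cfsg.Agent.Lib.Helper6.TCD.Fi24a.CR78
import Cfsg.Agent.Lib.Helper6.TCD.Fi24a.CR79
import Cfsg.Agent.Lib.Helper6.TCD.Fi24a.CR80
import Cfsg.Agent.Lib.Helper6.TCD.Fi24a.CR81
import Cfsg.Agent.Lib.Helper6.TCD.Fi24a.CR82
import Cfsg.Agent.Lib.Helper6.TCD.Fi24a.CR83
import Cfsg.Agent.Lib.Helper6.TCD.Fi24a.CR84
import Cfsg.Agent.Lib.Helper6.TCD.Fi24a.CR85
import Cfsg.Agent.Lib.Helper6.TCD.Fi24a.CR86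
import Cfsg.Agent.Lib.Helper6.TCD.Fi24a.CR87
import Cfsg.Agent.Lib.Helper6.TCD.Fi24a.CR88
import Cfsg.Agent.Lib.Helper6.TCD.Fi24a.CR89
import Cfsg.Agent.Lib.Helper6.TCD.Fi24a.CR90
import Cfsg.Agent.Lib.Helper6.TCD.Fi24a.CR91
import Cfsg.Agent.Lib.Helper6.TCD.Fi24a.CR92
import Cfsg.Agent.Lib.Helper6.TCD.Fi24a.CR93
import Cfsg.Agent.Lib.Helper6.TCD.Fi24a.CR94
import Cfsg.Agent.Lib.Helper6.TCD.Fi24a.CR95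
import Cfsg.Agent.Lib.Helper6.TCD.Fi24a.CR96
import Cfsg.Agent.Lib.Helper6.TCD.Fi24a.CR97
import Cfsg.Agent.Lib.Helper6.TCD.Fi24a.CR98
import Cfsg.Agent.Lib.Helper6.TCD.Fi24a.CR99
import Cfsg.Agent.Lib.Helper6.TCD.Fi24a.CR100
import Cfsg.Agent.Lib.Helper6.TCD.Fi24a.CR101
import Cfsg.Agent.Lib.Helper6.TCD.Fi24a.CR102
import Cfsg.Agent.Lib.Helper6.TCD.Fi24a.CR103
import Cfsg.Agent.Lib.Helper6.TCD.Fi24a.CR104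
import Cfsg.Agent.Lib.Helper6.TCD.Fi24a.CR105
import Cfsg.Agent.Lib.Helper6.TCD.Fi24a.CR106
import Cfsg.Agent.Lib.Helper6.TCD.Fi24a.CR107
import Cfsg.Agent.Lib.Helper6.TCD.Fi24a.CR108
import Cfsg.Agent.Lib.Helper6.TCD.Fi24a.CR109
import Cfsg.Agent.Lib.Helper6.TCD.Fi24a.CR110
import Cfsg.Agent.Lib.Helper6.TCD.Fi24a.CR111
import Cfsg.Agent.Lib.Helper6.TCD.Fi24a.CR112
import Cfsg.Agent.Lib.Helper6.TCD.Fi24a.CR113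
import Cfsg.Agent.Lib.Helper6.TCD.Fi24a.CR114
import Cfsg.Agent.Lib.Helper6.TCD.Fi24a.CR115
import Cfsg.Agent.Lib.Helper6.TCD.Fi24a.CR116
import Cfsg.Agent.Lib.Helper6.TCD.Fi24a.CR117
import Cfsg.Agent.Lib.Helper6.TCD.Fi24a.CR118
import Cfsg.Agent.Lib.Helper6.TCD.Fi24a.CR119
import Cfsg.Agent.Lib.Helper6.TCD.Fi24a.CR120
import Cfsg.Agent.Lib.Helper6.TCD.Fi24a.CR121
import Cfsg.Agent.Lib.Helper6.TCD.Fi24a.CR122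
import Cfsg.Agent.Lib.Helper6.TCD.Fi24a.CR123
import Cfsg.Agent.Lib.Helper6.TCD.Fi24a.CR124
import Cfsg.Agent.Lib.Helper6.TCD.Fi24a.CR125
import Cfsg.Agent.Lib.Helper6.TCD.Fi24a.CR126
import Cfsg.Agent.Lib.Helper6.TCD.Fi24a.CR127
import Cfsg.Agent.Lib.Helper6.TCD.Fi24a.CR128
import Cfsg.Agent.Lib.Helper6.TCD.Fi24a.CR129
import Cfsg.Agent.Lib.Helper6.TCD.Fi24a.CR130
import Cfsg.Agent.Lib.Helper6.TCD.Fi24a.CR131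
import Cfsg.Agent.Lib.Helper6.TCD.Fi24a.CR132
import Cfsg.Agent.Lib.Helper6.TCD.Fi24a.CR133
import Cfsg.Agent.Lib.Helper6.TCD.Fi24a.CR134
import Cfsg.Agent.Lib.Helper6.TCD.Fi24a.CR135
import Cfsg.Agent.Lib.Helper6.TCD.Fi24a.CR136
import Cfsg.Agent.Lib.Helper6.TCD.Fi24a.CR137
import Cfsg.Agent.Lib.Helper6.TCD.Fi24a.CR138
import Cfsg.Agent.Lib.Helper6.TCD.Fi24a.CR139
import Cfsg.Agent.Lib.Helper6.TCD.Fi24a.CR140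
import Cfsg.Agent.Lib.Helper6.TCD.Fi24a.CR141
import Cfsg.Agent.Lib.Helper6.TCD.Fi24a.CR142
import Cfsg.Agent.Lib.Helper6.TCD.Fi24a.CR143
import Cfsg.Agent.Lib.Helper6.TCD.Fi24a.CR144
import Cfsg.Agent.Lib.Helper6.TCD.Fi24a.CR145
import Cfsg.Agent.Lib.Helper6.TCD.Fi24a.CR146
import Cfsg.Agent.Lib.Helper6.TCD.Fi24a.CR147
import Cfsg.Agent.Lib.Helper6.TCD.Fi24a.CR148
import Cfsg.Agent.Lib.Helper6.TCD.Fi24a.CR149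
import Cfsg.Agent.Lib.Helper6.TCD.Fi24a.CR150
import Cfsg.Agent.Lib.Helper6.TCD.Fi24a.CR151
import Cfsg.Agent.Lib.Helper6.TCD.Fi24a.CR152
import Cfsg.Agent.Lib.Helper6.TCD.Fi24a.CR153
import Cfsg.Agent.Lib.Helper6.TCD.Fi24a.CR154
import Cfsg.Agent.Lib.Helper6.TCD.Fi24a.CR155
import Cfsg.Agent.Lib.Helper6.TCD.Fi24a.CR156
import Cfsg.Agent.Lib.Helper6.TCD.Fi24a.CR157
import Cfsg.Agent.Lib.Helper6.TCD.Fi24a.CR158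
import Cfsg.Agent.Lib.Helper6.TCD.Fi24a.CR159
import Cfsg.Agent.Lib.Helper6.TCD.Fi24a.CR160
import Cfsg.Agent.Lib.Helper6.TCD.Fi24a.CR161
import Cfsg.Agent.Lib.Helper6.TCD.Fi24a.CR162
import Cfsg.Agent.Lib.Helper6.TCD.Fi24a.CR163
import Cfsg.Agent.Lib.Helper6.TCD.Fi24a.CR164
import Cfsg.Agent.Lib.Helper6.TCD.Fi24a.CR165
import Cfsg.Agent.Lib.Helper6.TCD.Fi24a.CR166
import Cfsg.Agent.Lib.Helper6.TCD.Fi24a.CR167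
import Cfsg.Agent.Lib.Helper6.TCD.Fi24a.CR168
import Cfsg.Agent.Lib.Helper6.TCD.Fi24a.CR169
import Cfsg.Agent.Lib.Helper6.TCD.Fi24a.CR170
import Cfsg.Agent.Lib.Helper6.TCD.Fi24a.CR171
import Cfsg.Agent.Lib.Helper6.TCD.Fi24a.CR172
import Cfsg.Agent.Lib.Helper6.TCD.Fi24a.CR173
import Cfsg.Agent.Lib.Helper6.TCD.Fi24a.CR174
import Cfsg.Agent.Lib.Helper6.TCD.Fi24a.CR175
import Cfsg.Agent.Lib.Helper6.TCD.Fi24a.CR176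
import Cfsg.Agent.Lib.Helper6.TCD.Fi24a.CR177
import Cfsg.Agent.Lib.Helper6.TCD.Fi24a.CR178
import Cfsg.Agent.Lib.Helper6.TCD.Fi24a.CR179
import Cfsg.Agent.Lib.Helper6.TCD.Fi24a.CR180
import Cfsg.Agent.Lib.Helper6.TCD.Fi24a.CR181
import Cfsg.Agent.Lib.Helper6.TCD.Fi24a.CR182
import Cfsg.Agent.Lib.Helper6.TCD.Fi24a.CR183
import Cfsg.Agent.Lib.Helper6.TCD.Fi24a.CR184
import Cfsg.Agent.Lib.Helper6.TCD.Fi24a.CR185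
import Cfsg.Agent.Lib.Helper6.TCD.Fi24a.CR186
import Cfsg.Agent.Lib.Helper6.TCD.Fi24a.CR187
import Cfsg.Agent.Lib.Helper6.TCD.Fi24a.CR188
import Cfsg.Agent.Lib.Helper6.TCD.Fi24a.CR189
import Cfsg.Agent.Lib.Helper6.TCD.Fi24a.CR190
import Cfsg.Agent.Lib.Helper6.TCD.Fi24a.CR191
import Cfsg.Agent.Lib.Helper6.TCD.Fi24a.CR192
import Cfsg.Agent.Lib.Helper6.TCD.Fi24a.CR193
import Cfsg.Agent.Lib.Helper6.TCD.Fi24a.CR194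
import Cfsg.Agent.Lib.Helper6.TCD.Fi24a.CR195
import Cfsg.Agent.Lib.Helper6.TCD.Fi24a.CR196
import Cfsg.Agent.Lib.Helper6.TCD.Fi24a.CR197
import Cfsg.Agent.Lib.Helper6.TCD.Fi24a.CR198
import Cfsg.Agent.Lib.Helper6.TCD.Fi24a.CR199
import Cfsg.Agent.Lib.Helper6.TCD.Fi24a.CR200
import Cfsg.Agent.Lib.Helper6.TCD.Fi24a.CR201
import Cfsg.Agent.Lib.Helper6.TCD.Fi24a.CR202
import Cfsg.Agent.Lib.Helper6.TCD.Fi24a.CR203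
import Cfsg.Agent.Lib.Helper6.TCD.Fi24a.CR204
import Cfsg.Agent.Lib.Helper6.TCD.Fi24a.CR205
import Cfsg.Agent.Lib.Helper6.TCD.Fi24a.CR206
import Cfsg.Agent.Lib.Helper6.TCD.Fi24a.CR207
import Cfsg.Agent.Lib.Helper6.TCD.Fi24a.CR208
import Cfsg.Agent.Lib.Helper6.TCD.Fi24a.CR209
import Cfsg.Agent.Lib.Helper6.TCD.Fi24a.CR210
import Cfsg.Agent.Lib.Helper6.TCD.Fi24a.CR211
import Cfsg.Agent.Lib.Helper6.TCD.Fi24a.CR212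
import Cfsg.Agent.Lib.Helper6.TCD.Fi24a.CR213
import Cfsg.Agent.Lib.Helper6.TCD.Fi24a.CR214
import Cfsg.Agent.Lib.Helper6.TCD.Fi24a.CR215
import Cfsg.Agent.Lib.Helper6.TCD.Fi24a.CR216
import Cfsg.Agent.Lib.Helper6.TCD.Fi24a.CR217
import Cfsg.Agent.Lib.Helper6.TCD.Fi24a.CR218
import Cfsg.Agent.Lib.Helper6.TCD.Fi24a.CR219
import Cfsg.Agent.Lib.Helper6.TCD.Fi24a.CR220
import Cfsg.Agent.Lib.Helper6.TCD.Fi24a.CR221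
import Cfsg.Agent.Lib.Helper6.TCD.Fi24a.CR222
import Cfsg.Agent.Lib.Helper6.TCD.Fi24a.CR223
import Cfsg.Agent.Lib.Helper6.TCD.Fi24a.CR224
import Cfsg.Agent.Lib.Helper6.TCD.Fi24a.CR225
import Cfsg.Agent.Lib.Helper6.TCD.Fi24a.CR226
import Cfsg.Agent.Lib.Helper6.TCD.Fi24a.CR227
import Cfsg.Agent.Lib.Helper6.TCD.Fi24a.CR228
import Cfsg.Agent.Lib.Helper6.TCD.Fi24a.CR229
import Cfsg.Agent.Lib.Helper6.TCD.Fi24a.CR230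
import Cfsg.Agent.Lib.Helper6.TCD.Fi24a.CR231
import Cfsg.Agent.Lib.Helper6.TCD.Fi24a.CR232
import Cfsg.Agent.Lib.Helper6.TCD.Fi24a.CR233
import Cfsg.Agent.Lib.Helper6.TCD.Fi24a.CR234
import Cfsg.Agent.Lib.Helper6.TCD.Fi24a.CR235
import Cfsg.Agent.Lib.Helper6.TCD.Fi24a.CR236
import Cfsg.Agent.Lib.Helper6.TCD.Fi24a.CR237
import Cfsg.Agent.Lib.Helper6.TCD.Fi24a.CR238
import Cfsg.Agent.Lib.Helper6.TCD.Fi24a.CR239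
import Cfsg.Agent.Lib.Helper6.TCD.Fi24a.CR240
import Cfsg.Agent.Lib.Helper6.TCD.Fi24a.CR241
import Cfsg.Agent.Lib.Helper6.TCD.Fi24a.CR242
import Cfsg.Agent.Lib.Helper6.TCD.Fi24a.CR243
import Cfsg.Agent.Lib.Helper6.TCD.Fi24a.CR244
import Cfsg.Agent.Lib.Helper6.TCD.Fi24a.CR245
import Cfsg.Agent.Lib.Helper6.TCD.Fi24a.CR246
import Cfsg.Agent.Lib.Helper6.TCD.Fi24a.CR247
import Cfsg.Agent.Lib.Helper6.TCD.Fi24a.CR248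
import Cfsg.Agent.Lib.Helper6.TCD.Fi24a.CR249
import Cfsg.Agent.Lib.Helper6.TCD.Fi24a.CR250
import Cfsg.Agent.Lib.Helper6.TCD.Fi24a.CR251
import Cfsg.Agent.Lib.Helper6.TCD.Fi24a.CR252
import Cfsg.Agent.Lib.Helper6.TCD.Fi24a.CR253
import Cfsg.Agent.Lib.Helper6.TCD.Fi24a.CR254
import Cfsg.Agent.Lib.Helper6.TCD.Fi24a.CR255
import Cfsg.Agent.Lib.Helper6.TCD.Fi24a.CR256
import Cfsg.Agent.Lib.Helper6.TCD.Fi24a.CR257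
import Cfsg.Agent.Lib.Helper6.TCD.Fi24a.CR258
import Cfsg.Agent.Lib.Helper6.TCD.Fi24a.CR259
import Cfsg.Agent.Lib.Helper6.TCD.Fi24a.CR260
import Cfsg.Agent.Lib.Helper6.TCD.Fi24a.CR261
import Cfsg.Agent.Lib.Helper6.TCD.Fi24a.CR262
import Cfsg.Agent.Lib.Helper6.TCD.Fi24a.CR263
import Cfsg.Agent.Lib.Helper6.TCD.Fi24a.CR264
import Cfsg.Agent.Lib.Helper6.TCD.Fi24a.CR265
import Cfsg.Agent.Lib.Helper6.TCD.Fi24a.CR266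
import Cfsg.Agent.Lib.Helper6.TCD.Fi24a.CR267
import Cfsg.Agent.Lib.Helper6.TCD.Fi24a.CR268
import Cfsg.Agent.Lib.Helper6.TCD.Fi24a.CR269
import Cfsg.Agent.Lib.Helper6.TCD.Fi24a.CR270
import Cfsg.Agent.Lib.Helper6.TCD.Fi24a.CR271
import Cfsg.Agent.Lib.Helper6.TCD.Fi24a.CR272
import Cfsg.Agent.Lib.Helper6.TCD.Fi24a.CR273
import Cfsg.Agent.Lib.Helper6.TCD.Fi24a.CR274
import Cfsg.Agent.Lib.Helper6.TCD.Fi24a.CR275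
import Cfsg.Agent.Lib.Helper6.TCD.Fi24a.CR276
import Cfsg.Agent.Lib.Helper6.TCD.Fi24a.CR277
import Cfsg.Agent.Lib.Helper6.TCD.Fi24a.CR278
import Cfsg.Agent.Lib.Helper6.TCD.Fi24a.CR279
import Cfsg.Agent.Lib.Helper6.TCD.Fi24a.CR280
import Cfsg.Agent.Lib.Helper6.TCD.Fi24a.CR281
import Cfsg.Agent.Lib.Helper6.TCD.Fi24a.CR282
import Cfsg.Agent.Lib.Helper6.TCD.Fi24a.CR283
import Cfsg.Agent.Lib.Helper6.TCD.Fi24a.CR284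
import Cfsg.Agent.Lib.Helper6.TCD.Fi24a.CR285
import Cfsg.Agent.Lib.Helper6.TCD.Fi24a.CR286
import Cfsg.Agent.Lib.Helper6.TCD.Fi24a.CR287
import Cfsg.Agent.Lib.Helper6.TCD.Fi24a.CR288
import Cfsg.Agent.Lib.Helper6.TCD.Fi24a.CR289
import Cfsg.Agent.Lib.Helper6.TCD.Fi24a.CR290
import Cfsg.Agent.Lib.Helper6.TCD.Fi24a.CR291
import Cfsg.Agent.Lib.Helper6.TCD.Fi24a.CR292
import Cfsg.Agent.Lib.Helper6.TCD.Fi24a.CR293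
import Cfsg.Agent.Lib.Helper6.TCD.Fi24a.CR294
import Cfsg.Agent.Lib.Helper6.TCD.Fi24a.CR295
import Cfsg.Agent.Lib.Helper6.TCD.Fi24a.CR296
import Cfsg.Agent.Lib.Helper6.TCD.Fi24a.CR297
import Cfsg.Agent.Lib.Helper6.TCD.Fi24a.CR298
import Cfsg.Agent.Lib.Helper6.TCD.Fi24a.CR299
import Cfsg.Agent.Lib.Helper6.TCD.Fi24a.CR300
import Cfsg.Agent.Lib.Helper6.TCD.Fi24a.CR301
import Cfsg.Agent.Lib.Helper6.TCD.Fi24a.CR302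
import Cfsg.Agent.Lib.Helper6.TCD.Fi24a.CR303
import Cfsg.Agent.Lib.Helper6.TCD.Fi24a.CR304
import Cfsg.Agent.Lib.Helper6.TCD.Fi24a.CR305
import Cfsg.Agent.Lib.Helper6.TCD.Fi24a.CR306
import Cfsg.Agent.Lib.Helper6.TCD.Fi24a.CR307
import Cfsg.Agent.Lib.Helper6.TCD.Fi24a.CR308
import Cfsg.Agent.Lib.Helper6.TCD.Fi24a.CR309
import Cfsg.Agent.Lib.Helper6.TCD.Fi24a.CR310
import Cfsg.Agent.Lib.Helper6.TCD.Fi24a.CR311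
import Cfsg.Agent.Lib.Helper6.TCD.Fi24a.CR312
import Cfsg.Agent.Lib.Helper6.TCD.Fi24a.CR313
import Cfsg.Agent.Lib.Helper6.TCD.Fi24a.CR314
import Cfsg.Agent.Lib.Helper6.TCD.Fi24a.CR315
import Cfsg.Agent.Lib.Helper6.TCD.Fi24a.CR316
import Cfsg.Agent.Lib.Helper6.TCD.Fi24a.CR317
import Cfsg.Agent.Lib.Helper6.TCD.Fi24a.CR318
import Cfsg.Agent.Lib.Helper6.TCD.Fi24a.CR319
import Cfsg.Agent.Lib.Helper6.TCD.Fi24a.CR320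
import Cfsg.Agent.Lib.Helper6.TCD.Fi24a.CR321
import Cfsg.Agent.Lib.Helper6.TCD.Fi24a.CR322
import Cfsg.Agent.Lib.Helper6.TCD.Fi24a.CR323
import Cfsg.Agent.Lib.Helper6.TCD.Fi24a.CR324
import Cfsg.Agent.Lib.Helper6.TCD.Fi24a.CR325
import Cfsg.Agent.Lib.Helper6.TCD.Fi24a.CR326
import Cfsg.Agent.Lib.Helper6.TCD.Fi24a.CR327
import Cfsg.Agent.Lib.Helper6.TCD.Fi24a.CR328
import Cfsg.Agent.Lib.Helper6.TCD.Fi24a.CR329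
import Cfsg.Agent.Lib.Helper6.TCD.Fi24a.CR330
import Cfsg.Agent.Lib.Helper6.TCD.Fi24a.CR331
import Cfsg.Agent.Lib.Helper6.TCD.Fi24a.CR332
import Cfsg.Agent.Lib.Helper6.TCD.Fi24a.CR333
import Cfsg.Agent.Lib.Helper6.TCD.Fi24a.CR334
import Cfsg.Agent.Lib.Helper6.TCD.Fi24a.CR335
import Cfsg.Agent.Lib.Helper6.TCD.Fi24a.CR336
import Cfsg.Agent.Lib.Helper6.TCD.Fi24a.CR337
import Cfsg.Agent.Lib.Helper6.TCD.Fi24a.CR338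
import Cfsg.Agent.Lib.Helper6.TCD.Fi24a.CR339
import Cfsg.Agent.Lib.Helper6.TCD.Fi24a.CR340
import Cfsg.Agent.Lib.Helper6.TCD.Fi24a.CR341
import Cfsg.Agent.Lib.Helper6.TCD.Fi24a.CR342
import Cfsg.Agent.Lib.Helper6.TCD.Fi24a.CR343
import Cfsg.Agent.Lib.Helper6.TCD.Fi24a.CR344
import Cfsg.Agent.Lib.Helper6.TCD.Fi24a.CR345
import Cfsg.Agent.Lib.Helper6.TCD.Fi24a.CR346
import Cfsg.Agent.Lib.Helper6.TCD.Fi24a.CR347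
import Cfsg.Agent.Lib.Helper6.TCD.Fi24a.CR348
import Cfsg.Agent.Lib.Helper6.TCD.Fi24a.CR349
import Cfsg.Agent.Lib.Helper6.TCD.Fi24a.CR350
import Cfsg.Agent.Lib.Helper6.TCD.Fi24a.CR351
import Cfsg.Agent.Lib.Helper6.TCD.Fi24a.CR352
import Cfsg.Agent.Lib.Helper6.TCD.Fi24a.CR353
import Cfsg.Agent.Lib.Helper6.TCD.Fi24a.CR354
import Cfsg.Agent.Lib.Helper6.TCD.Fi24a.CR355
import Cfsg.Agent.Lib.Helper6.TCD.Fi24a.CR356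
import Cfsg.Agent.Lib.Helper6.TCD.Fi24a.CR357
import Cfsg.Agent.Lib.Helper6.TCD.Fi24a.CR358
import Cfsg.Agent.Lib.Helper6.TCD.Fi24a.CR359
import Cfsg.Agent.Lib.Helper6.TCD.Fi24a.CR360
import Cfsg.Agent.Lib.Helper6.TCD.Fi24a.CR361
import Cfsg.Agent.Lib.Helper6.TCD.Fi24a.CR362
import Cfsg.Agent.Lib.Helper6.TCD.Fi24a.CR363
import Cfsg.Agent.Lib.Helper6.TCD.Fi24a.CR364
import Cfsg.Agent.Lib.Helper6.TCD.Fi24a.CR365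
import Cfsg.Agent.Lib.Helper6.TCD.Fi24a.CR366
import Cfsg.Agent.Lib.Helper6.TCD.Fi24a.CR367
import Cfsg.Agent.Lib.Helper6.TCD.Fi24a.CR368
import Cfsg.Agent.Lib.Helper6.TCD.Fi24a.CR369
import Cfsg.Agent.Lib.Helper6.TCD.Fi24a.CR370
import Cfsg.Agent.Lib.Helper6.TCD.Fi24a.CR371
import Cfsg.Agent.Lib.Helper6.TCD.Fi24a.CR372
import Cfsg.Agent.Lib.Helper6.TCD.Fi24a.CR373
import Cfsg.Agent.Lib.Helper6.TCD.Fi24a.CR374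
import Cfsg.Agent.Lib.Helper6.TCD.Fi24a.CR375
import Cfsg.Agent.Lib.Helper6.TCD.Fi24a.CR376
import Cfsg.Agent.Lib.Helper6.TCD.Fi24a.CR377
import Cfsg.Agent.Lib.Helper6.TCD.Fi24a.CR378
import Cfsg.Agent.Lib.Helper6.TCD.Fi24a.CR379
import Cfsg.Agent.Lib.Helper6.TCD.Fi24a.CR380
import Cfsg.Agent.Lib.Helper6.TCD.Fi24a.CR381
import Cfsg.Agent.Lib.Helper6.TCD.Fi24a.CR382
import Cfsg.Agent.Lib.Helper6.TCD.Fi24a.CR383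
import Cfsg.Agent.Lib.Helper6.TCD.Fi24a.CR384
import Cfsg.Agent.Lib.Helper6.TCD.Fi24a.CR385
import Cfsg.Agent.Lib.Helper6.TCD.Fi24a.CR386
import Cfsg.Agent.Lib.Helper6.TCD.Fi24a.CR387
import Cfsg.Agent.Lib.Helper6.TCD.Fi24a.CR388
import Cfsg.Agent.Lib.Helper6.TCD.Fi24a.CR389
import Cfsg.Agent.Lib.Helper6.TCD.Fi24a.CR390
import Cfsg.Agent.Lib.Helper6.TCD.Fi24a.CR391
import Cfsg.Agent.Lib.Helper6.TCD.Fi24a.CR392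
import Cfsg.Agent.Lib.Helper6.TCD.Fi24a.CR393
import Cfsg.Agent.Lib.Helper6.TCD.Fi24a.CR394
import Cfsg.Agent.Lib.Helper6.TCD.Fi24a.CR395
import Cfsg.Agent.Lib.Helper6.TCD.Fi24a.CR396
import Cfsg.Agent.Lib.Helper6.TCD.Fi24a.CR397
import Cfsg.Agent.Lib.Helper6.TCD.Fi24a.CR398
import Cfsg.Agent.Lib.Helper6.TCD.Fi24a.CR399
import Cfsg.Agent.Lib.Helper6.TCD.Fi24a.CR400
import Cfsg.Agent.Lib.Helper6.TCD.Fi24a.CR401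
import Cfsg.Agent.Lib.Helper6.TCD.Fi24a.CR402
import Cfsg.Agent.Lib.Helper6.TCD.Fi24a.CR403
import Cfsg.Agent.Lib.Helper6.TCD.Fi24a.CR404
import Cfsg.Agent.Lib.Helper6.TCD.Fi24a.CR405
import Cfsg.Agent.Lib.Helper6.TCD.Fi24a.CR406
import Cfsg.Agent.Lib.Helper6.TCD.Fi24a.CR407
import Cfsg.Agent.Lib.Helper6.TCD.Fi24a.CR408
import Cfsg.Agent.Lib.Helper6.TCD.Fi24a.CR409
import Cfsg.Agent.Lib.Helper6.TCD.Fi24a.CR410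
import Cfsg.Agent.Lib.Helper6.TCD.Fi24a.CR411
import Cfsg.Agent.Lib.Helper6.TCD.Fi24a.CR412
import Cfsg.Agent.Lib.Helper6.TCD.Fi24a.CR413
import Cfsg.Agent.Lib.Helper6.TCD.Fi24a.CR414
import Cfsg.Agent.Lib.Helper6.TCD.Fi24a.CR415
import Cfsg.Agent.Lib.Helper6.TCD.Fi24a.CR416
import Cfsg.Agent.Lib.Helper6.TCD.Fi24a.CR417
import Cfsg.Agent.Lib.Helper6.TCD.Fi24a.CR418
import Cfsg.Agent.Lib.Helper6.TCD.Fi24a.CR419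
import Cfsg.Agent.Lib.Helper6.TCD.Fi24a.CR420
import Cfsg.Agent.Lib.Helper6.TCD.Fi24a.CR421
import Cfsg.Agent.Lib.Helper6.TCD.Fi24a.CR422
import Cfsg.Agent.Lib.Helper6.TCD.Fi24a.CR423
import Cfsg.Agent.Lib.Helper6.TCD.Fi24a.CR424
import Cfsg.Agent.Lib.Helper6.TCD.Fi24a.CR425
import Cfsg.Agent.Lib.Helper6.TCD.Fi24a.CR426
import Cfsg.Agent.Lib.Helper6.TCD.Fi24a.CR427
import Cfsg.Agent.Lib.Helper6.TCD.Fi24a.CR428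
import Cfsg.Agent.Lib.Helper6.TCD.Fi24a.CR429
import Cfsg.Agent.Lib.Helper6.TCD.Fi24a.CR430
import Cfsg.Agent.Lib.Helper6.TCD.Fi24a.CR431
import Cfsg.Agent.Lib.Helper6.TCD.Fi24a.CR432
import Cfsg.Agent.Lib.Helper6.TCD.Fi24a.CR433
import Cfsg.Agent.Lib.Helper6.TCD.Fi24a.CR434
import Cfsg.Agent.Lib.Helper6.TCD.Fi24a.CR435
import Cfsg.Agent.Lib.Helper6.TCD.Fi24a.CR436
import Cfsg.Agent.Lib.Helper6.TCD.Fi24a.CR437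
import Cfsg.Agent.Lib.Helper6.TCD.Fi24a.CR438
import Cfsg.Agent.Lib.Helper6.TCD.Fi24a.CR439
import Cfsg.Agent.Lib.Helper6.TCD.Fi24a.CR440
import Cfsg.Agent.Lib.Helper6.TCD.Fi24a.CR441
import Cfsg.Agent.Lib.Helper6.TCD.Fi24a.CR442
import Cfsg.Agent.Lib.Helper6.TCD.Fi24a.CR443
import Cfsg.Agent.Lib.Helper6.TCD.Fi24a.CR444
import Cfsg.Agent.Lib.Helper6.TCD.Fi24a.CR445
import Cfsg.Agent.Lib.Helper6.TCD.Fi24a.CR446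
import Cfsg.Agent.Lib.Helper6.TCD.Fi24a.CR447
import Cfsg.Agent.Lib.Helper6.TCD.Fi24a.CR448
import Cfsg.Agent.Lib.Helper6.TCD.Fi24a.CR449
import Cfsg.Agent.Lib.Helper6.TCD.Fi24a.CR450
import Cfsg.Agent.Lib.Helper6.TCD.Fi24a.CR451
import Cfsg.Agent.Lib.Helper6.TCD.Fi24a.CR452
import Cfsg.Agent.Lib.Helper6.TCD.Fi24a.CR453
import Cfsg.Agent.Lib.Helper6.TCD.Fi24a.CR454
import Cfsg.Agent.Lib.Helper6.TCD.Fi24a.CR455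
import Cfsg.Agent.Lib.Helper6.TCD.Fi24a.CR456
import Cfsg.Agent.Lib.Helper6.TCD.Fi24a.CR457
import Cfsg.Agent.Lib.Helper6.TCD.Fi24a.CR458
import Cfsg.Agent.Lib.Helper6.TCD.Fi24a.CR459
import Cfsg.Agent.Lib.Helper6.TCD.Fi24a.CR460
import Cfsg.Agent.Lib.Helper6.TCD.Fi24a.CR461
import Cfsg.Agent.Lib.Helper6.TCD.Fi24a.CR462
import Cfsg.Agent.Lib.Helper6.TCD.Fi24a.CR463
import Cfsg.Agent.Lib.Helper6.TCD.Fi24a.CR464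
import Cfsg.Agent.Lib.Helper6.TCD.Fi24a.CR465
import Cfsg.Agent.Lib.Helper6.TCD.Fi24a.CR466
import Cfsg.Agent.Lib.Helper6.TCD.Fi24a.CR467
import Cfsg.Agent.Lib.Helper6.TCD.Fi24a.CR468
import Cfsg.Agent.Lib.Helper6.TCD.Fi24a.CR469
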