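import Cfsg.Agent.Lib.Helper6.TCD.Fi24a.SHP0
import Cfsg.Agent.Lib.Helper6.TCD.Fi24a.SHP1
import Cfsg.Agent.Lib.Helper6.TCD.Fi24a.SHP2
import Cfsg.Agent.Lib.Helper6.TCD.Fi24a.SHP3
import Cfsg.Agent.Lib.Helper6.TCD.Fi24a.SHP4
import Cfsg.Agent.Lib.Helper6.TCD.Fi24a.SHP5
import Cfsg.Agent.Lib.Helper6.TCD.Fi24a.SHP6
import Cfsg.Agent.Lib.Helper6.TCD.Fi24a.SHP7
import Cfsg.Agent.Lib.Helper6.TCD.Fi24a.SHP8
import Cfsg.Agent.Lib.Helper6.TCD.Fi24a.SHP9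
import Cfsg.Agent.Lib.Helper6.TCD.Fi24a.SHP10
import Cfsg.Agent.Lib.Helper6.TCD.Fi24a.SHP11
import Cfsg.Agent.Lib.Helper6.TCD.Fi24a.SHP12
import Cfsg.Agent.Lib.Helper6.TCD.Fi24a.SHP13
import Cfsg.Agent.Lib.Helper6.TCD.Fi24a.SHP14
import Cfsg.Agent.Lib.Helper6.TCD.Fi24a.SHP15
import Cfsg.Agent.Lib.Helper6.TCD.Fi24a.SHP16
import Cfsg.Agent.Lib.Helper6.TCD.Fi24a.SHP17
import Cfsg.Agent.Lib.Helper6.TCD.Fi24a.SHP18
import Cfsg.Agent.Lib.Helper6.TCD.Fi24a.SHP19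
import Cfsg.Agent.Lib.Helper6.TCD.Fi24a.SHP20
import Cfsg.Agent.Lib.Helper6.TCD.Fi24a.SHP21
import Cfsg.Agent.Lib.Helper6.TCD.Fi24a.SHP22
import Cfsg.Agent.Lib.Helper6.TCD.Fi24a.SHP23
import Cfsg.Agent.Lib.Helper6.TCD.Fi24a.SHP24
import Cfsg.Agent.Lib.Helper6.TCD.Fi24a.SHP25
import Cfsg.Agent.Lib.Helper6.TCD.Fi24a.SHP26
import Cfsg.Agent.Lib.Helper6.TCD.Fi24a.SHP27
import Cfsg.Agent.Lib.Helper6.TCD.Fi24a.SHP28
import Cfsg.Agent.Lib.Helper6.TCD.Fi24a.SHP29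
import Cfsg.Agent.Lib.Helper6.TCD.Fi24a.SHP30
import Cfsg.Agent.Lib.Helper6.TCD.Fi24a.SHP31
import Cfsg.Agent.Lib.Helper6.TCD.Fi24a.SHP32
import Cfsg.Agent.Lib.Helper6.TCD.Fi24a.SHP33
import Cfsg.Agent.Lib.Helper6.TCD.Fi24a.SHP34
import Cfsg.Agent.Lib.Helper6.TCD.Fi24a.SHP35
import Cfsg.Agent.Lib.Helper6.TCD.Fi24a.SHP36
import Cfsg.Agent.Lib.Helper6.TCD.Fi24a.SHP37
import Cfsg.Agent.Lib.Helper6.TCD.Fi24a.SHP38
import Cfsg.Agent.Lib.Helper6.TCD.Fi24a.SHP39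
import Cfsg.Agent.Lib.Helper6.TCD.Fi24a.SHP40
import Cfsg.Agent.Lib.Helper6.TCD.Fi24a.SHP41
import Cfsg.Agent.Lib.Helper6.TCD.Fi24a.SHP42
import Cfsg.Agent.Lib.Helper6.TCD.Fi24a.SHP43
import Cfsg.Agent.Lib.Helper6.TCD.Fi24a.SHP44
import Cfsg.Agent.Lib.Helper6.TCD.Fi24a.SHP45
import Cfsg.Agent.Lib.Helper6.TCD.Fi24a.SHP46
import Cfsg.Agent.Lib.Helper6.TCD.Fi24a.SHP47
import Cfsg.Agent.Lib.Helper6.TCD.Fi24a.SHP48
import Cfsg.Agent.Lib.Helper6.TCD.Fi24a.SHP49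
import Cfsg.Agent.Lib.Helper6.TCD.Fi24a.SHP50
import Cfsg.Agent.Lib.Helper6.TCD.Fi24a.SHP51
import Cfsg.Agent.Lib.Helper6.TCD.Fi24a.SHP52
import Cfsg.Agent.Lib.Helper6.TCD.Fi24a.SHP53
import Cfsg.Agent.Lib.Helper6.TCD.Fi24a.SHP54
import Cfsg.Agent.Lib.Helper6.TCD.Fi24a.SHP55
import Cfsg.Agent.Lib.Helper6.TCD.Fi24a.SHP56
import Cfsg.Agent.Lib.Helper6.TCD.Fi24a.SHP57
import Cfsg.Agent.Lib.Helper6.TCD.Fi24a.SHP58
import Cfsg.Agent.Lib.Helper6.TCD.Fi24a.SHP59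
import Cfsg.Agent.Lib.Helper6.TCD.Fi24a.SHP60
import Cfsg.Agent.Lib.Helper6.TCD.Fi24a.SHP61
import Cfsg.Agent.Lib.Helper6.TCD.Fi24a.SHP62
import Cfsg.Agent.Lib.Helper6.TCD.Fi24a.SHP63
import Cfsg.Agent.Lib.Helper6.TCD.Fi24a.SHP64
import Cfsg.Agent.Lib.Helper6.TCD.Fi24a.SHP65
import Cfsg.Agent.Lib.Helper6.TCD.Fi24a.SHP66
import Cfsg.Agent.Lib.Helper6.TCD.Fi24a.SHP67
import Cfsg.Agent.Lib.Helper6.TCD.Fi24a.SHP68
import Cfsg.Agent.Lib.Helper6.TCD.Fi24a.SHP69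
import Cfsg.Agent.Lib.Helper6.TCD.Fi24a.SHP70
import Cfsg.Agent.Lib.Helper6.TCD.Fi24a.SHP71
import Cfsg.Agent.Lib.Helper6.TCD.Fi24a.SHP72
set_option autoImplicit false
namespace Cfsg.Agent.Lib.Helper6.TCD.Fi24a
noncomputable def SHT0 (i : Nat) : Nat := Bool.rec (SHP0N62 i) (SHP1N62 i) (Nat.ble 65536 i)
noncomputable def SHT1 (i : Nat) : Nat := Bool.rec (SHT0 i) (SHP2N62 i) (Nat.ble 131072 i)
noncomputable def SHT2 (i : Nat) : Nat := Bool.rec (SHP3N62 i) (SHP4N62 i) (Nat.ble 262144 i)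
noncomputable def SHT3 (i : Nat) : Nat := Bool.rec (SHT1 i) (SHT2 i) (Nat.ble 196608 i)
noncomputable def SHT4 (i : Nat) : Nat := Bool.rec (SHP5N62 i) (SHP6N62 i) (Nat.ble 393216 i)
noncomputable def SHT5 (i : Nat) : Nat := Bool.rec (SHT4 i) (SHP7N62 i) (Nat.ble 458752 i)
noncomputable def SHT6 (i : Nat) : Nat := Bool.rec (SHP8N62 i) (SHP9N62 i) (Nat.ble 589824 i)
noncomputable def SHT7 (i : Nat) : Nat := Bool.rec (SHT5 i) (SHT6 i) (Nat.ble 524288 i)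
noncomputable def SHT8 (i : Nat) : Nat := Bool.rec (SHT3 i) (SHT7 i) (Nat.ble 327680 i)
noncomputable def SHT9 (i : Nat) : Nat := Bool.rec (SHP10N62 i) (SHP11N62 i) (Nat.ble 720896 i)
noncomputable def SHT10 (i : Nat) : Nat := Bool.rec (SHT9 i) (SHP12N62 i) (Nat.ble 786432 i)
noncomputable def SHT11 (i : Nat) : Nat := Bool.rec (SHP13N62 i) (SHP14N62 i) (Nat.ble 917504 i)
noncomputable def SHT12 (i : Nat) : Nat := Bool.rec (SHT10 i) (SHT11 i) (Nat.ble 851968 i)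
noncomputable def SHT13 (i : Nat) : Nat := Bool.rec (SHP15N62 i) (SHP16N62 i) (Nat.ble 1048576 i)
noncomputable def SHT14 (i : Nat) : Nat := Bool.rec (SHP17N62 i) (SHP18N62 i) (Nat.ble 1179648 i)
noncomputable def SHT15 (i : Nat) : Nat := Bool.rec (SHT13 i) (SHT14 i) (Nat.ble 1114112 i)
noncomputable def SHT16 (i : Nat) : Nat := Bool.rec (SHT12 i) (SHT15 i) (Nat.ble 983040 i)
noncomputable def SHT17 (i : Nat) : Nat := Bool.rec (SHT8 i) (SHT16 i) (Nat.ble 655360 i)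
noncomputable def SHT18 (i : Nat) : Nat := Bool.rec (SHP19N62 i) (SHP20N62 i) (Nat.ble 1310720 i)
noncomputable def SHT19 (i : Nat) : Nat := Bool.rec (SHT18 i) (SHP21N62 i) (Nat.ble 1376256 i)
noncomputable def SHT20 (i : Nat) : Nat := Bool.rec (SHP22N62 i) (SHP23N62 i) (Nat.ble 1507328 i)
noncomputable def SHT21 (i : Nat) : Nat := Bool.rec (SHT19 i) (SHT20 i) (Nat.ble 1441792 i)
noncomputable def SHT22 (i : Nat) : Nat := Bool.rec (SHP24N62 i) (SHP25N62 i) (Nat.ble 1638400 i)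
noncomputable def SHT23 (i : Nat) : Nat := Bool.rec (SHP26N62 i) (SHP27N62 i) (Nat.ble 1769472 i)
noncomputable def SHT24 (i : Nat) : Nat := Bool.rec (SHT22 i) (SHT23 i) (Nat.ble 1703936 i)
noncomputable def SHT25 (i : Nat) : Nat := Bool.rec (SHT21 i) (SHT24 i) (Nat.ble 1572864 i)
noncomputable def SHT26 (i : Nat) : Nat := Bool.rec (SHP28N62 i) (SHP29N62 i) (Nat.ble 1900544 i)
noncomputable def SHT27 (i : Nat) : Nat := Bool.rec (SHT26 i) (SHP30N62 i) (Nat.ble 1966080 i)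
noncomputable def SHT28 (i : Nat) : Nat := Bool.rec (SHP31N62 i) (SHP32N62 i) (Nat.ble 2097152 i)
noncomputable def SHT29 (i : Nat) : Nat := Bool.rec (SHT27 i) (SHT28 i) (Nat.ble 2031616 i)
noncomputable def SHT30 (i : Nat) : Nat := Bool.rec (SHP33N62 i) (SHP34N62 i) (Nat.ble 2228224 i)
noncomputable def SHT31 (i : Nat) : Nat := Bool.rec (SHP35N62 i) (SHP36N62 i) (Nat.ble 2359296 i)
noncomputable def SHT32 (i : Nat) : Nat := Bool.rec (SHT30 i) (SHT31 i) (Nat.ble 2293760 i)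
noncomputable def SHT33 (i : Nat) : Nat := Bool.rec (SHT29 i) (SHT32 i) (Nat.ble 2162688 i)
noncomputable def SHT34 (i : Nat) : Nat := Bool.rec (SHT25 i) (SHT33 i) (Nat.ble 1835008 i)
noncomputable def SHT35 (i : Nat) : Nat := Bool.rec (SHT17 i) (SHT34 i) (Nat.ble 1245184 i)
noncomputable def SHT36 (i : Nat) : Nat := Bool.rec (SHP37N62 i) (SHP38N62 i) (Nat.ble 2490368 i)
noncomputable def SHT37 (i : Nat) : Nat := Bool.rec (SHT36 i) (SHP39N62 i) (Nat.ble 2555904 i)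
noncomputable def SHT38 (i : Nat) : Nat := Bool.rec (SHP40N62 i) (SHP41N62 i) (Nat.ble 2686976 i)
noncomputable def SHT39 (i : Nat) : Nat := Bool.rec (SHT37 i) (SHT38 i) (Nat.ble 2621440 i)
noncomputable def SHT40 (i : Nat) : Nat := Bool.rec (SHP42N62 i) (SHP43N62 i) (Nat.ble 2818048 i)
noncomputable def SHT41 (i : Nat) : Nat := Bool.rec (SHP44N62 i) (SHP45N62 i) (Nat.ble 2949120 i)
noncomputable def SHT42 (i : Nat) : Nat := Bool.rec (SHT40 i) (SHT41 i) (Nat.ble 2883584 i)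
noncomputable def SHT43 (i : Nat) : Nat := Bool.rec (SHT39 i) (SHT42 i) (Nat.ble 2752512 i)
noncomputable def SHT44 (i : Nat) : Nat := Bool.rec (SHP46N62 i) (SHP47N62 i) (Nat.ble 3080192 i)
noncomputable def SHT45 (i : Nat) : Nat := Bool.rec (SHT44 i) (SHP48N62 i) (Nat.ble 3145728 i)
noncomputable def SHT46 (i : Nat) : Nat := Bool.rec (SHP49N62 i) (SHP50N62 i) (Nat.ble 3276800 i)
noncomputable def SHT47 (i : Nat) : Nat := Bool.rec (SHT45 i) (SHT46 i) (Nat.ble 3211264 i)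
noncomputable def SHT48 (i : Nat) : Nat := Bool.rec (SHP51N62 i) (SHP52N62 i) (Nat.ble 3407872 i)
noncomputable def SHT49 (i : Nat) : Nat := Bool.rec (SHP53N62 i) (SHP54N62 i) (Nat.ble 3538944 i)
noncomputable def SHT50 (i : Nat) : Nat := Bool.rec (SHT48 i) (SHT49 i) (Nat.ble 3473408 i)
noncomputable def SHT51 (i : Nat) : Nat := Bool.rec (SHT47 i) (SHT50 i) (Nat.ble 3342336 i)
noncomputable def SHT52 (i : Nat) : Nat := Bool.rec (SHT43 i) (SHT51 i) (Nat.ble 3014656 i)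
noncomputable def SHT53 (i : Nat) : Nat := Bool.rec (SHP55N62 i) (SHP56N62 i) (Nat.ble 3670016 i)
noncomputable def SHT54 (i : Nat) : Nat := Bool.rec (SHT53 i) (SHP57N62 i) (Nat.ble 3735552 i)
noncomputable def SHT55 (i : Nat) : Nat := Bool.rec (SHP58N62 i) (SHP59N62 i) (Nat.ble 3866624 i)
noncomputable def SHT56 (i : Nat) : Nat := Bool.rec (SHT54 i) (SHT55 i) (Nat.ble 3801088 i)
noncomputable def SHT57 (i : Nat) : Nat := Bool.rec (SHP60N62 i) (SHP61N62 i) (Nat.ble 3997696 i)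
noncomputable def SHT58 (i : Nat) : Nat := Bool.rec (SHP62N62 i) (SHP63N62 i) (Nat.ble 4128768 i)
noncomputable def SHT59 (i : Nat) : Nat := Bool.rec (SHT57 i) (SHT58 i) (Nat.ble 4063232 i)
noncomputable def SHT60 (i : Nat) : Nat := Bool.rec (SHT56 i) (SHT59 i) (Nat.ble 3932160 i)
noncomputable def SHT61 (i : Nat) : Nat := Bool.rec (SHP64N62 i) (SHP65N62 i) (Nat.ble 4259840 i)
noncomputable def SHT62 (i : Nat) : Nat := Bool.rec (SHT61 i) (SHP66N62 i) (Nat.ble 4325376 i)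
noncomputable def SHT63 (i : Nat) : Nat := Bool.rec (SHP67N62 i) (SHP68N62 i) (Nat.ble 4456448 i)
noncomputable def SHT64 (i : Nat) : Nat := Bool.rec (SHT62 i) (SHT63 i) (Nat.ble 4390912 i)
noncomputable def SHT65 (i : Nat) : Nat := Bool.rec (SHP69N62 i) (SHP70N62 i) (Nat.ble 4587520 i)
noncomputable def SHT66 (i : Nat) : Nat := Bool.rec (SHP71N62 i) (SHP72N13 i) (Nat.ble 4718592 i)
noncomputable def SHT67 (i : Nat) : Nat := Bool.rec (SHT65 i) (SHT66 i) (Nat.ble 4653056 i)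
noncomputable def SHT68 (i : Nat) : Nat := Bool.rec (SHT64 i) (SHT67 i) (Nat.ble 4521984 i)
noncomputable def SHT69 (i : Nat) : Nat := Bool.rec (SHT60 i) (SHT68 i) (Nat.ble 4194304 i)
noncomputable def SHT70 (i : Nat) : Nat := Bool.rec (SHT52 i) (SHT69 i) (Nat.ble 3604480 i)
noncomputable def SH (i : Nat) : Nat := Bool.rec (SHT35 i) (SHT70 i) (Nat.ble 2424832 i)
end Cfsg.Agent.Lib.Helper6.TCD.Fi24a
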